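import Cfsg.Agent.Lib.Grp.SpreadField.Main
import Cfsg.Agent.Lib.Invol.SL2Natural

/-!
# Two quadratic groups with opposite spreads generate the special linear group
-/

set_option autoImplicit false

universe u v

namespace Cfsg.Agent.Grp.OffenderSL2

open Cfsg.Agent.Grp.SL2 Matrix

variable {Vb : Type u} [AddCommGroup Vb] {Γ : Type v} [Group Γ] (ρ : Γ →* AddMonoid.End Vb)

theorem decomp_unique {W0 U0 : AddSubgroup Vb} (hd : ∀ x ∈ W0, x ∈ U0 → x = 0) {w w' u u' : Vb}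
    (hw : w ∈ W0) (hw' : w' ∈ W0) (hu : u ∈ U0) (hu' : u' ∈ U0) (h : w + u = w' + u') :
    w = w' ∧ u = u' := by
  have e : w - w' = u' - u := by
    rw [sub_eq_sub_iff_add_eq_add, add_comm u' w']
    exact h
  have h0 := hd _ (W0.sub_mem hw hw') (e ▸ U0.sub_mem hu' hu)
  refine ⟨sub_eq_zero.mp h0, ?_⟩
  rw [h0] at e
  exact (sub_eq_zero.mp e.symm).symm

/-- The shear of a quadratic element. -/
def shear (W0 U0 : AddSubgroup Vb) (g : Γ) (h : ∀ v, ρ g v - v ∈ W0) : U0 →+ W0 where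
  toFun u := ⟨ρ g u - u, h u⟩
  map_zero' := Subtype.ext (by simp)
  map_add' a b := Subtype.ext (by
    show ρ g ((a : Vb) + b) - ((a : Vb) + b) = ρ g a - a + (ρ g b - b)
    rw [map_add]
    abel)

/-- The data of an opposite pair of quadratic groups. -/
structure IsOpposite (W0 U0 : AddSubgroup Vb) (A B : Subgroup Γ) : Prop where
  disj : ∀ x ∈ W0, x ∈ U0 → x = 0
  span : ∀ x, ∃ w ∈ W0, ∃ u ∈ U0, w + u = x
  fixA : ∀ a ∈ A, ∀ w ∈ W0, ρ a w = w
  fixB : ∀ b ∈ B, ∀ u ∈ U0, ρ b u = u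
  quadA : ∀ a ∈ A, ∀ v, ρ a v - v ∈ W0
  quadB : ∀ b ∈ B, ∀ v, ρ b v - v ∈ U0
  regA : ∀ a ∈ A, a ≠ 1 → ∀ u ∈ U0, ρ a u = u → u = 0
  turnA : ∀ a ∈ A, a ≠ 1 → ∃ b ∈ B, b ≠ 1 ∧ ∀ u ∈ U0, ∃ w ∈ W0, ρ a u = ρ b w
  turnB : ∀ b ∈ B, b ≠ 1 → ∃ a ∈ A, a ≠ 1 ∧ ∀ u ∈ U0, ∃ w ∈ W0, ρ a u = ρ b w
  gen : A ⊔ B = ⊤
  ne : A ≠ ⊥
  cardW : Nat.card W0 = Nat.card A
  cardU : Nat.card U0 = Nat.card A

/-- The recognition theorem. -/
theorem recognise [Finite Vb] [Finite Γ] {W0 U0 : AddSubgroup Vb} {A B : Subgroup Γ}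
    (h : IsOpposite ρ W0 U0 A B) :
    ∃ (F : Type) (_ : Field F) (_ : Fintype F), Fintype.card F = Nat.card A ∧
      ∃ (r : Γ →* Matrix.SpecialLinearGroup (Fin 2) F) (ψ : Vb ≃+ (Fin 2 → F)),
        Function.Surjective r ∧
        ∀ g v, ψ (ρ g v) = ((r g : Matrix.SpecialLinearGroup (Fin 2) F) : Matrix (Fin 2) (Fin 2) F) *ᵥ ψ v := by
  classical
  obtain ⟨sA, hsA⟩ : ∃ s : A → (U0 →+ W0), ∀ (a : A) (u : U0), (s a u : Vb) = ρ a u - u :=
    ⟨fun a => shear ρ W0 U0 a (h.quadA a a.2), fun _ _ => rfl⟩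
  obtain ⟨tB, htB⟩ : ∃ t : B → (W0 →+ U0), ∀ (b : B) (w : W0), (t b w : Vb) = ρ b w - w :=
    ⟨fun b => shear ρ U0 W0 b (h.quadB b b.2), fun _ _ => rfl⟩
  have hρA : ∀ (a : A) (u : U0), ρ a u = (sA a u : Vb) + u := fun a u => by rw [hsA, sub_add_cancel]
  have hρB : ∀ (b : B) (w : W0), ρ b w = (w : Vb) + (tB b w : Vb) := fun b w => by
    rw [htB, add_sub_cancel]
  have hsmul : ∀ (a a' : A) u, sA (a * a') u = sA a u + sA a' u := fun a a' u => Subtype.ext (by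
    rw [hsA, AddSubgroup.coe_add, hsA, hsA, Subgroup.coe_mul, map_mul]
    show ρ a (ρ a' u) - _ = _
    rw [hρA a' u, map_add, h.fixA a a.2 _ (sA a' u).2]
    abel)
  have hbij : ∀ a : A, a ≠ 1 → Function.Bijective (sA a) := by
    intro a ha
    refine (Nat.bijective_iff_injective_and_card _).mpr ⟨?_, by rw [h.cardU, h.cardW]⟩
    refine (injective_iff_map_eq_zero _).mpr fun u hu => Subtype.ext ?_
    refine h.regA a a.2 (fun e => ha (Subtype.ext e)) u u.2 ?_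
    rw [hρA, hu, AddSubgroup.coe_zero, zero_add]
  have hrel : ∀ (a : A) (b : B), (∀ u ∈ U0, ∃ w ∈ W0, ρ a u = ρ b w) → ∀ u, tB b (sA a u) = u := by
    intro a b hab u
    obtain ⟨w, hw, e⟩ := hab u u.2
    rw [hρA, show ρ b w = w + (tB b ⟨w, hw⟩ : Vb) from hρB b ⟨w, hw⟩] at e
    obtain ⟨e1, e2⟩ := decomp_unique h.disj (sA a u).2 hw u.2 (tB b ⟨w, hw⟩).2 e
    rw [show sA a u = ⟨w, hw⟩ from Subtype.ext e1]
    exact Subtype.ext e2.symm
  obtain ⟨a₀, ha₀⟩ : ∃ a₀ : A, a₀ ≠ 1 := by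
    haveI : Nontrivial A := (Subgroup.nontrivial_iff_ne_bot A).mpr h.ne
    exact exists_ne 1
  obtain ⟨e₀, he₀⟩ : ∃ e : U0 ≃+ W0, ∀ u, e u = sA a₀ u :=
    ⟨AddEquiv.ofBijective (sA a₀) (hbij a₀ ha₀), fun _ => rfl⟩
  haveI : Nontrivial W0 := by
    rw [← Finite.one_lt_card_iff_nontrivial, h.cardW]
    exact A.one_lt_card_iff_ne_bot.mpr h.ne
  let σh : Additive A →+ AddMonoid.End W0 :=
    { toFun := fun a => (sA a.toMul).comp e₀.symm.toAddMonoidHom
      map_zero' := AddMonoidHom.ext fun w => Subtype.ext (by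
        show (sA 1 (e₀.symm w) : Vb) = 0
        rw [hsA]
        show ρ 1 _ - _ = _
        rw [map_one]
        exact sub_self _)
      map_add' := fun a a' => AddMonoidHom.ext fun w => hsmul _ _ _ }
  let τh : B → AddMonoid.End W0 := fun b => e₀.toAddMonoidHom.comp (tB b)
  have hσ1 : σh (Additive.ofMul a₀) = 1 := AddMonoidHom.ext fun w => by
    show sA a₀ (e₀.symm w) = w
    rw [← he₀, e₀.apply_symm_apply]
  have hinv : ∀ (a : A) (b : B), a ≠ 1 → (∀ u ∈ U0, ∃ w ∈ W0, ρ a u = ρ b w) →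
      σh (Additive.ofMul a) * τh b = 1 ∧ τh b * σh (Additive.ofMul a) = 1 := by
    intro a b ha hab
    refine ⟨AddMonoidHom.ext fun w => ?_, AddMonoidHom.ext fun w => ?_⟩
    · show sA a (e₀.symm (e₀ (tB b w))) = w
      obtain ⟨u, rfl⟩ := (hbij a ha).2 w
      rw [e₀.symm_apply_apply, hrel a b hab]
    · show e₀ (tB b (sA a (e₀.symm w))) = w
      rw [hrel a b hab, e₀.apply_symm_apply]
  have htmul : ∀ (b b' : B), τh (b * b') = τh b + τh b' := fun b b' => AddMonoidHom.ext fun w => by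
    show e₀ (tB (b * b') w) = e₀ (tB b w) + e₀ (tB b' w)
    rw [← map_add]
    refine congrArg e₀ (Subtype.ext ?_)
    rw [htB, AddSubgroup.coe_add, htB, htB, Subgroup.coe_mul, map_mul]
    show ρ b (ρ b' w) - _ = _
    rw [hρB b' w, map_add, h.fixB b b.2 _ (tB b' w).2]
    abel
  have ht1 : τh 1 = 0 := by
    have e := htmul 1 1
    rw [one_mul] at e
    exact left_eq_add.mp e
  let τA : Additive B →+ AddMonoid.End W0 :=
    { toFun := fun b => τh b.toMul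
      map_zero' := ht1
      map_add' := fun b b' => htmul _ _ }
  have hσinj : ∀ a : A, a ≠ 1 → Function.Injective (σh (Additive.ofMul a)) := fun a ha =>
    (hbij a ha).1.comp e₀.symm.injective
  have hcard : Nat.card σh.range = Nat.card W0 := by
    rw [h.cardW]
    refine (Nat.card_eq_of_bijective (fun a : A => σh.rangeRestrict (Additive.ofMul a))
      ⟨fun a a' e => ?_, fun s => ?_⟩).symm
    · by_contra hne
      obtain ⟨w, hw⟩ := exists_ne (0 : W0)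
      have e' : σh (Additive.ofMul a) = σh (Additive.ofMul a') := congrArg Subtype.val e
      have e0 : σh (Additive.ofMul (a * a'⁻¹)) = 0 := by
        rw [ofMul_mul, ofMul_inv, map_add, map_neg, e', add_neg_cancel]
      have := hσinj (a * a'⁻¹) (fun e => hne (mul_inv_eq_one.mp e)) (a₁ := w) (a₂ := 0) (by
        rw [e0]; rfl)
      exact hw this
    · obtain ⟨a, ha⟩ := σh.rangeRestrict_surjective s
      exact ⟨a.toMul, ha⟩
  have hS : SpreadField.IsSpread σh.range := by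
    refine SpreadField.isSpread_of_inverse σh.range τA.range ⟨_, hσ1⟩ ?_ ?_ ?_ hcard
    · rintro _ ⟨a, rfl⟩ hs0 w hw
      have ha : a.toMul ≠ 1 := fun e => hs0 (by rw [show a = 0 from e, map_zero])
      exact hσinj _ ha (hw.trans (map_zero _).symm)
    · rintro _ ⟨a, rfl⟩ hs0
      have ha : a.toMul ≠ 1 := fun e => hs0 (by rw [show a = 0 from e, map_zero])
      obtain ⟨b, hb, -, hab⟩ := h.turnA a.toMul a.toMul.2 (fun e => ha (Subtype.ext e))
      exact ⟨τh ⟨b, hb⟩, ⟨Additive.ofMul ⟨b, hb⟩, rfl⟩, hinv _ _ ha hab⟩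
    · rintro _ ⟨b, rfl⟩ ht0
      have hb : b.toMul ≠ 1 := fun e => ht0 (by rw [show b = 0 from e, map_zero])
      obtain ⟨a, ha, ha1, hab⟩ := h.turnB b.toMul b.toMul.2 (fun e => hb (Subtype.ext e))
      exact ⟨σh (Additive.ofMul ⟨a, ha⟩), ⟨_, rfl⟩,
        hinv ⟨a, ha⟩ b.toMul (fun e => ha1 (congrArg Subtype.val e)) hab⟩
  obtain ⟨F, iF, fF, φ, hφ⟩ := SpreadField.exists_field hS
  obtain ⟨w₀, hw₀⟩ := exists_ne (0 : W0)
  have hφinj : Function.Injective φ := by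
    haveI := SpreadField.nontrivial_end (W := W0)
    exact φ.injective
  have hFcard : Fintype.card F = Nat.card A := by
    rw [← h.cardW, ← hcard, ← Nat.card_eq_fintype_card]
    exact Nat.card_eq_of_bijective (fun k => (⟨φ k, (hφ _).mpr ⟨k, rfl⟩⟩ : σh.range))
      ⟨fun a b e => hφinj (congrArg Subtype.val e), fun s => by
        obtain ⟨k, hk⟩ := (hφ _).mp s.2
        exact ⟨k, Subtype.ext hk⟩⟩
  obtain ⟨ev, hev⟩ : ∃ ev : F ≃+ W0, ∀ k, ev k = φ k w₀ := by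
    let f : F →+ W0 :=
      { toFun := fun k => φ k w₀
        map_zero' := by rw [map_zero]; rfl
        map_add' := fun a b => by rw [map_add]; rfl }
    refine ⟨AddEquiv.ofBijective f ((Nat.bijective_iff_injective_and_card f).mpr
      ⟨(injective_iff_map_eq_zero f).mpr fun k hk => ?_, by
        rw [Nat.card_eq_fintype_card, hFcard, h.cardW]⟩), fun _ => rfl⟩
    by_contra hk0
    have hne : φ k ≠ 0 := fun e => hk0 (hφinj (e.trans (map_zero φ).symm))
    exact hw₀ (hS.inj _ ((hφ _).mpr ⟨k, rfl⟩) hne w₀ hk)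
  have hact : ∀ (k : F) (w : W0), φ k w = ev (k * ev.symm w) := fun k w => by
    obtain ⟨l, rfl⟩ := ev.surjective w
    rw [ev.symm_apply_apply, hev, hev, map_mul]
    rfl
  obtain ⟨ψ, hψ⟩ : ∃ ψ : Vb ≃+ (Fin 2 → F),
      ∀ (w : W0) (u : U0), ψ ((w : Vb) + u) = ![ev.symm w, ev.symm (e₀ u)] := by
    let f : (W0 × U0) →+ Vb := (W0.subtype).coprod U0.subtype
    have hf : Function.Bijective f := by
      refine ⟨fun p q e => ?_, fun x => ?_⟩
      · obtain ⟨e1, e2⟩ := decomp_unique h.disj p.1.2 q.1.2 p.2.2 q.2.2 e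
        exact Prod.ext (Subtype.ext e1) (Subtype.ext e2)
      · obtain ⟨w, hw, u, hu, rfl⟩ := h.span x
        exact ⟨(⟨w, hw⟩, ⟨u, hu⟩), rfl⟩
    let g : (W0 × U0) ≃+ (Fin 2 → F) :=
      { toFun := fun p => ![ev.symm p.1, ev.symm (e₀ p.2)]
        invFun := fun c => (ev (c 0), e₀.symm (ev (c 1)))
        left_inv := fun p => by simp
        right_inv := fun c => by
          funext i; fin_cases i <;> simp
        map_add' := fun p q => by
          funext i; fin_cases i <;> simp }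
    refine ⟨(AddEquiv.ofBijective f hf).symm.trans g, fun w u => ?_⟩
    have e : (AddEquiv.ofBijective f hf).symm ((w : Vb) + u) = (w, u) := by
      rw [AddEquiv.symm_apply_eq]; rfl
    rw [AddEquiv.trans_apply, e]
    rfl
  have hmatA : ∀ a : A, ∃ k : F, φ k = σh (Additive.ofMul a) ∧ ∀ v,
      ψ (ρ a v) = ((up k : Matrix.SpecialLinearGroup (Fin 2) F) : Matrix (Fin 2) (Fin 2) F) *ᵥ ψ v := by
    intro a
    obtain ⟨k, hk⟩ := (hφ _).mp (⟨_, rfl⟩ : σh (Additive.ofMul a) ∈ σh.range)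
    refine ⟨k, hk, fun v => ?_⟩
    obtain ⟨w, hw, u, hu, rfl⟩ := h.span v
    have e : ρ a (w + u) = ((⟨w, hw⟩ + sA a ⟨u, hu⟩ : W0) : Vb) + u := by
      rw [map_add, h.fixA a a.2 w hw, show ρ a u = (sA a ⟨u, hu⟩ : Vb) + u from hρA a ⟨u, hu⟩,
        AddSubgroup.coe_add]
      abel
    have e2 : ev.symm (sA a ⟨u, hu⟩) = k * ev.symm (e₀ ⟨u, hu⟩) := by
      rw [ev.symm_apply_eq, ← hact, hk]
      show sA a _ = sA a (e₀.symm (e₀ _))
      rw [e₀.symm_apply_apply]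
    rw [e, hψ _ ⟨u, hu⟩, hψ ⟨w, hw⟩ ⟨u, hu⟩, map_add, e2]
    funext i
    fin_cases i <;> simp [up, Matrix.mulVec, dotProduct, Fin.sum_univ_two]
  have hmatB : ∀ (b : B) (k : F), φ k = τh b → ∀ v,
      ψ (ρ b v) = ((low k : Matrix.SpecialLinearGroup (Fin 2) F) : Matrix (Fin 2) (Fin 2) F) *ᵥ ψ v := by
    intro b k hk v
    obtain ⟨w, hw, u, hu, rfl⟩ := h.span v
    have e : ρ b (w + u) = w + ((tB b ⟨w, hw⟩ + ⟨u, hu⟩ : U0) : Vb) := by
      rw [map_add, h.fixB b b.2 u hu, show ρ b w = w + (tB b ⟨w, hw⟩ : Vb) from hρB b ⟨w, hw⟩,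
        AddSubgroup.coe_add]
      abel
    have e2 : ev.symm (e₀ (tB b ⟨w, hw⟩)) = k * ev.symm ⟨w, hw⟩ := by
      rw [ev.symm_apply_eq, ← hact, hk]
      rfl
    rw [e, hψ ⟨w, hw⟩, hψ ⟨w, hw⟩ ⟨u, hu⟩, map_add, map_add, e2]
    funext i
    fin_cases i <;> simp [low, Matrix.mulVec, dotProduct, Fin.sum_univ_two]
  let H : Subgroup Γ :=
    { carrier := {g | ∃ m : Matrix.SpecialLinearGroup (Fin 2) F, ∀ v,
        ψ (ρ g v) = (m : Matrix (Fin 2) (Fin 2) F) *ᵥ ψ v}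
      one_mem' := ⟨1, fun v => by simp⟩
      mul_mem' := by
        rintro g g' ⟨m, hm⟩ ⟨m', hm'⟩
        refine ⟨m * m', fun v => ?_⟩
        rw [map_mul]
        show ψ (ρ g (ρ g' v)) = _
        rw [hm, hm', Matrix.mulVec_mulVec]
        rfl
      inv_mem' := by
        rintro g ⟨m, hm⟩
        refine ⟨m⁻¹, fun v => ?_⟩
        have e := hm (ρ g⁻¹ v)
        have e2 : ρ g (ρ g⁻¹ v) = v := by
          show (ρ g * ρ g⁻¹) v = v
          rw [← map_mul, mul_inv_cancel, map_one]; rfl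
        rw [e2] at e
        rw [e, Matrix.mulVec_mulVec]
        rw [← Matrix.SpecialLinearGroup.coe_mul, inv_mul_cancel]
        simp }
  have hτφ : ∀ b : B, ∃ k, φ k = τh b := fun b => by
    refine (hφ _).mp ?_
    by_cases hb : b = 1
    · rw [hb, ht1]; exact zero_mem _
    obtain ⟨a, ha, ha1, hab⟩ := h.turnB b b.2 fun e => hb (Subtype.ext e)
    obtain ⟨e1, e2⟩ := hinv ⟨a, ha⟩ b (fun e => ha1 (congrArg Subtype.val e)) hab
    obtain ⟨t, ht, hst, hts⟩ := hS.inv (σh (Additive.ofMul ⟨a, ha⟩)) ⟨_, rfl⟩ (fun e => by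
      rw [e, zero_mul] at e1
      haveI := SpreadField.nontrivial_end (W := W0)
      exact zero_ne_one e1)
    rwa [show τh b = t by rw [← mul_one (τh b), ← hst, ← mul_assoc, e2, one_mul]]
  have hH : H = ⊤ := by
    rw [eq_top_iff, ← h.gen, sup_le_iff]
    refine ⟨fun a ha => ?_, fun b hb => ?_⟩
    · obtain ⟨k, -, hk⟩ := hmatA ⟨a, ha⟩
      exact ⟨_, hk⟩
    · obtain ⟨k, hk⟩ := hτφ ⟨b, hb⟩
      exact ⟨_, hmatB ⟨b, hb⟩ k hk⟩
  have hex : ∀ g, g ∈ H := fun g => hH ▸ Subgroup.mem_top g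
  choose r hr using hex
  have huniq : ∀ (g : Γ) (m : Matrix.SpecialLinearGroup (Fin 2) F),
      (∀ v, ψ (ρ g v) = (m : Matrix (Fin 2) (Fin 2) F) *ᵥ ψ v) → r g = m := by
    intro g m hm
    refine Subtype.ext (Matrix.toLin'.injective (LinearMap.ext fun c => ?_))
    obtain ⟨v, rfl⟩ := ψ.surjective c
    rw [Matrix.toLin'_apply, Matrix.toLin'_apply, ← hr, hm]
  let rh : Γ →* Matrix.SpecialLinearGroup (Fin 2) F :=
    { toFun := r
      map_one' := huniq 1 1 fun v => by simp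
      map_mul' := fun g g' => huniq _ _ fun v => by
        rw [map_mul]
        show ψ (ρ g (ρ g' v)) = _
        rw [hr, hr, Matrix.mulVec_mulVec]
        rfl }
  refine ⟨F, iF, fF, hFcard, rh, ψ, ?_, fun g v => hr g v⟩
  have hup : ∀ k, up k ∈ rh.range := fun k => by
    obtain ⟨a, ha⟩ := (hφ (φ k)).mpr ⟨k, rfl⟩
    obtain ⟨k', hk', hv⟩ := hmatA a.toMul
    have : k' = k := hφinj (by rw [hk']; exact ha)
    subst this
    exact ⟨_, huniq _ _ hv⟩
  have hlow : ∀ k, low k ∈ rh.range := fun k => by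
    by_cases hk : k = 0
    · have : (low k : Matrix.SpecialLinearGroup (Fin 2) F) = 1 := by
        subst hk
        ext i j
        fin_cases i <;> fin_cases j <;> simp [low]
      rw [this]; exact one_mem _
    obtain ⟨a, ha⟩ := (hφ (φ k⁻¹)).mpr ⟨k⁻¹, rfl⟩
    have ha1 : a.toMul ≠ 1 := fun e => by
      rw [show a = 0 from e, map_zero, eq_comm, ← map_zero φ] at ha
      exact inv_ne_zero hk (hφinj ha)
    obtain ⟨b, hb, -, hab⟩ := h.turnA a.toMul a.toMul.2 (fun e => ha1 (Subtype.ext e))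
    obtain ⟨e1, e2⟩ := hinv a.toMul ⟨b, hb⟩ ha1 hab
    rw [show Additive.ofMul a.toMul = a from rfl, ha] at e1
    refine ⟨b, huniq _ _ (hmatB ⟨b, hb⟩ k ?_)⟩
    rw [← mul_one (φ k), ← e1, ← mul_assoc, ← map_mul, mul_inv_cancel₀ hk, map_one, one_mul]
  intro m
  have htop : rh.range = ⊤ := by
    refine Invol.SL2Nat.generated rh.range hup ?_
    have e : (Invol.SL2Nat.wel : Matrix.SpecialLinearGroup (Fin 2) F) = up (-1) * low 1 * up (-1) := by
      refine Subtype.ext ?_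
      simp only [Matrix.SpecialLinearGroup.coe_mul]
      ext i j
      fin_cases i <;> fin_cases j <;>
        simp [up, low, Invol.SL2Nat.wel, Matrix.mul_apply, Fin.sum_univ_two]
    rw [e]
    exact mul_mem (mul_mem (hup _) (hlow _)) (hup _)
  exact htop.ge (Subgroup.mem_top m)

end Cfsg.Agent.Grp.OffenderSL2
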