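import Cfsg.Agent.Lib.Grp.OffenderSL2.Points
import Cfsg.Agent.Lib.Grp.OffenderSL2.Recognise
import Cfsg.Prelude

/-!
# An offender generating a minimal group with each conjugate gives the natural module
-/

set_option autoImplicit false

universe u

open scoped commutatorElement

namespace Cfsg.Agent.Grp.OffenderSL2

variable {G : Type u} [Group G] [Finite G]

/-- A `p`-subgroup of an overgroup of a Sylow subgroup is in a conjugate of it inside that overgroup. -/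
theorem sylow_inside {p : ℕ} [Fact p.Prime] (T : Sylow p G) {M Q : Subgroup G}
    (hTM : (T : Subgroup G) ≤ M) (hQM : Q ≤ M) (hQ : IsPGroup p Q) :
    ∃ m ∈ M, ∀ q ∈ Q, m⁻¹ * q * m ∈ (T : Subgroup G) := by
  obtain ⟨S, hS⟩ := (hQ.of_equiv (Subgroup.subgroupOfEquivOfLe hQM).symm).exists_le_sylow
  obtain ⟨m, hm⟩ := MulAction.exists_smul_eq M (T.subtype hTM) S
  refine ⟨m, m.2, fun q hq => ?_⟩
  have h : (⟨q, hQM hq⟩ : M) ∈ ((m • T.subtype hTM : Sylow p M) : Subgroup M) := by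
    rw [hm]; exact hS hq
  rw [Sylow.coe_subgroup_smul, Subgroup.mem_pointwise_smul_iff_inv_smul_mem] at h
  simpa [MulAut.smul_def, MulAut.conj_apply, Sylow.coe_subtype, Subgroup.mem_subgroupOf, mul_assoc]
    using h

namespace Config

variable {p : ℕ} [Fact p.Prime] {V P A M T : Subgroup G} (C : Config p V P A M T)
include C

/-- An element acting trivially modulo the fixed space centralises the module. -/
theorem trivial_of_fixes {g : G} (hg : g ∈ P)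
    (hf : ∀ v ∈ V, ⁅g, v⁆ ∈ V ⊓ Subgroup.centralizer (P : Set G)) :
    g ∈ Subgroup.centralizer (V : Set G) := by
  classical
  obtain ⟨u, huV, huT, huP⟩ := C.moved
  obtain ⟨x, hx, hxM⟩ := C.ne
  obtain ⟨S0, hS0⟩ : ∃ S0, S0 = Subgroup.centralizer ({g} : Set G) := ⟨_, rfl⟩
  have horb : ∀ h ∈ P, h * u * h⁻¹ ∈ S0 := by
    intro h hh
    rw [hS0, Subgroup.mem_centralizer_singleton_iff]
    refine (mul_inv_eq_iff_eq_mul.mp (C.fixes_exact hh (C.norm h hh u huV) (fun t ht => ?_) hg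
      (hf _ (C.norm h hh u huV)))).symm
    have e := mem_cent.mp huT _ (mem_cj.mp ht)
    calc t * (h * u * h⁻¹) * t⁻¹ = h * ((h⁻¹ * t * h) * u * (h⁻¹ * t * h)⁻¹) * h⁻¹ := by group
      _ = h * u * h⁻¹ := by rw [e]
  have hZ : ∀ z ∈ V ⊓ Subgroup.centralizer (P : Set G), z ∈ S0 := fun z hz => by
    rw [hS0, Subgroup.mem_centralizer_singleton_iff]
    exact (mul_inv_eq_iff_eq_mul.mp (C.z_le hg hz)).symm
  have huA : u ∈ V ⊓ Subgroup.centralizer (A : Set G) := ⟨huV, Subgroup.centralizer_le C.aT huT⟩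
  obtain ⟨-, -, hsup, hev⟩ := C.cards hx hxM
  have hvx : x * u * x⁻¹ ∉ V ⊓ Subgroup.centralizer (P : Set G) := fun hz => huP (by
    have h2 := C.z_le (P.inv_mem hx) hz
    rw [show x⁻¹ * (x * u * x⁻¹) * x⁻¹⁻¹ = u by group] at h2
    rw [← h2] at hz
    exact hz.2)
  have hpoint : ∀ h ∈ P, ∀ w ∈ V ⊓ Subgroup.centralizer (A : Set G), h * w * h⁻¹ ∈ S0 := by
    intro h hh w hw
    obtain ⟨a, ha, z, hz, rfl⟩ := hev _ (conj_mem_cj x huA) hvx w hw
    have e : h * (⁅a, x * u * x⁻¹⁆ * z) * h⁻¹ =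
        (h * a * x * u * (h * a * x)⁻¹) * ((h * x) * u * (h * x)⁻¹)⁻¹ * (h * z * h⁻¹) := by
      simp only [commutatorElement_def]; group
    rw [e, C.z_le hh hz]
    exact S0.mul_mem (S0.mul_mem (horb _ (P.mul_mem (P.mul_mem hh (C.aP ha)) hx))
      (S0.inv_mem (horb _ (P.mul_mem hh hx)))) (hZ z hz)
  have hle : V ≤ S0 := by
    rw [← hsup]
    refine sup_le (fun w hw => by simpa using hpoint 1 P.one_mem w hw) fun w hw => ?_
    have := hpoint x hx _ (mem_cj.mp hw)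
    simpa [mul_assoc] using this
  refine Subgroup.mem_centralizer_iff.mpr fun v hv => ?_
  exact Subgroup.mem_centralizer_singleton_iff.mp (hS0 ▸ hle hv)

/-- The conclusion. -/
theorem natural (hfaith : P ⊓ Subgroup.centralizer (V : Set G) = ⊥) :
    ∃ (F : Type) (_ : Field F) (_ : Fintype F), Fintype.card F = Nat.card A ∧
      Nonempty (↥P ≃* Matrix.SpecialLinearGroup (Fin 2) F) ∧
      (V ⊓ Subgroup.centralizer (A : Set G)) = ⁅V, A⁆ ⊔ (V ⊓ Subgroup.centralizer (P : Set G)) ∧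
      Cfsg.ActsAsSL2OnSection F ⊤ P V (V ⊓ Subgroup.centralizer (P : Set G)) := by
  classical
  obtain ⟨x, hx, hxM⟩ := C.ne
  obtain ⟨W, hW⟩ : ∃ W, W = V ⊓ Subgroup.centralizer (A : Set G) := ⟨_, rfl⟩
  obtain ⟨Z, hZ⟩ : ∃ Z, Z = V ⊓ Subgroup.centralizer (P : Set G) := ⟨_, rfl⟩
  obtain ⟨hc1, hc2, hsup, hev⟩ := C.cards hx hxM
  obtain ⟨v₀, hv₀, hv₀Z⟩ := C.exists_vec hx
  have hWV : W ≤ V := hW ▸ inf_le_left
  have hWxV : cj x W ≤ V := hW ▸ C.point_le hx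
  have hZW : Z ≤ W := fun z hz => hW ▸ ⟨(hZ.le hz).1,
    mem_cent.mpr fun a ha => C.z_le (C.aP ha) (hZ.le hz)⟩
  have hZV : Z ≤ V := hZW.trans hWV
  have hWeq : W = ⁅V, A⁆ ⊔ Z := by
    refine le_antisymm (fun w hw => ?_) (sup_le (Subgroup.commutator_le.mpr fun v hv a ha => ?_) hZW)
    · obtain ⟨a, ha, z, hz, rfl⟩ := hev v₀ hv₀ hv₀Z w (hW.le hw)
      refine Subgroup.mul_mem_sup ?_ (hZ ▸ hz)
      have h := Subgroup.inv_mem _
        (Subgroup.commutator_mem_commutator (C.point_le hx hv₀) ha : ⁅v₀, a⁆ ∈ ⁅V, A⁆)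
      rwa [commutatorElement_inv] at h
    · rw [← commutatorElement_inv]
      exact Subgroup.inv_mem _ (hW ▸ C.quadratic a ha v hv)
  letI : CommGroup V :=
    { (inferInstance : Group V) with mul_comm := fun a b => Subtype.ext (C.vcomm _ a.2 _ b.2) }
  obtain ⟨N, hN⟩ : ∃ N, N = Z.subgroupOf V := ⟨_, rfl⟩
  let Q := Additive (↥V ⧸ N)
  let π : ↥V → Q := fun v => Additive.ofMul (QuotientGroup.mk v)
  have hπmul : ∀ a b, π (a * b) = π a + π b := fun a b => rfl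
  have hπ0 : ∀ v : V, π v = 0 ↔ (v : G) ∈ Z := fun v => by
    show (QuotientGroup.mk v : ↥V ⧸ N) = 1 ↔ _
    rw [QuotientGroup.eq_one_iff, hN]
    exact Subgroup.mem_subgroupOf
  have hπsurj : Function.Surjective π := fun q => by
    obtain ⟨v, hv⟩ := QuotientGroup.mk_surjective (Additive.toMul q)
    exact ⟨v, congrArg Additive.ofMul hv⟩
  let cg : ↥P → (↥V →* ↥V) := fun g =>
    { toFun := fun v => ⟨(g : G) * v * (g : G)⁻¹, C.norm g g.2 v v.2⟩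
      map_one' := Subtype.ext (by simp)
      map_mul' := fun a b => Subtype.ext (by simp [mul_assoc]) }
  have hcgN : ∀ g, N ≤ N.comap (cg g) := fun g v hv => by
    rw [hN, Subgroup.mem_subgroupOf] at hv
    rw [Subgroup.mem_comap, hN, Subgroup.mem_subgroupOf]
    show (g : G) * v * (g : G)⁻¹ ∈ Z
    rw [C.z_le g.2 (hZ.le hv)]
    exact hv
  let ρf : ↥P → AddMonoid.End Q := fun g => MonoidHom.toAdditive (QuotientGroup.map N N (cg g) (hcgN g))
  have hρπ : ∀ g v, ρf g (π v) = π (cg g v) := fun g v => rfl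
  let ρ : ↥P →* AddMonoid.End Q :=
    { toFun := ρf
      map_one' := AddMonoidHom.ext fun q => by
        obtain ⟨v, rfl⟩ := hπsurj q
        show ρf 1 (π v) = π v
        rw [hρπ]
        exact congrArg π (Subtype.ext (by simp [cg]))
      map_mul' := fun g h => AddMonoidHom.ext fun q => by
        obtain ⟨v, rfl⟩ := hπsurj q
        show ρf (g * h) (π v) = ρf g (ρf h (π v))
        rw [hρπ, hρπ, hρπ]
        exact congrArg π (Subtype.ext (by simp [cg, mul_assoc])) }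
  have hρ : ∀ (g : ↥P) (v : ↥V), ρ g (π v) = π ⟨(g : G) * v * (g : G)⁻¹, C.norm g g.2 v v.2⟩ :=
    fun g v => hρπ g v
  have himg : ∀ H : Subgroup G, ∃ H0 : AddSubgroup Q, ∀ q, q ∈ H0 ↔ ∃ v : V, (v : G) ∈ H ∧ π v = q :=
    fun H =>
    ⟨{ carrier := {q | ∃ v : V, (v : G) ∈ H ∧ π v = q}
       add_mem' := by
        rintro _ _ ⟨a, ha, rfl⟩ ⟨b, hb, rfl⟩
        exact ⟨a * b, H.mul_mem ha hb, rfl⟩
       zero_mem' := ⟨1, H.one_mem, rfl⟩
       neg_mem' := by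
        rintro _ ⟨a, ha, rfl⟩
        exact ⟨a⁻¹, H.inv_mem ha, rfl⟩ }, fun q => Iff.rfl⟩
  obtain ⟨W0, hW0⟩ := himg W
  obtain ⟨U0, hU0⟩ := himg (cj x W)
  have hcoset : ∀ (H : Subgroup G), Z ≤ H → ∀ a b : V, (b : G) ∈ H → π a = π b → (a : G) ∈ H := by
    intro H hH a b hb hab
    have h : π (b⁻¹ * a) = 0 := by
      rw [hπmul, hab, ← hπmul, inv_mul_cancel]; rfl
    have h2 := H.mul_mem hb (hH ((hπ0 _).mp h))
    rwa [Subgroup.coe_mul, Subgroup.coe_inv, mul_inv_cancel_left] at h2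
  have hZWx : Z ≤ cj x W := by rw [hZ, hW]; exact C.z_le_point hx
  have hsub : ∀ (g : ↥P) (v : ↥V), ρ g (π v) - π v = π ⟨⁅(g : G), (v : G)⁆, C.comm_mem g.2 v.2⟩ := by
    intro g v
    rw [sub_eq_iff_eq_add, hρ, ← hπmul]
    exact congrArg π (Subtype.ext (by simp [commutatorElement_def]))
  have hfix : ∀ (g : ↥P) (v : ↥V), (g : G) * v * (g : G)⁻¹ = v → ρ g (π v) = π v := fun g v h => by
    rw [hρ]; exact congrArg π (Subtype.ext h)
  have hcnt : ∀ h : G, (hh : h ∈ P) → (H0 : AddSubgroup Q) →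
      (∀ q, q ∈ H0 ↔ ∃ v : V, (v : G) ∈ cj h W ∧ π v = q) → Nat.card H0 = Nat.card A := by
    intro h hh H0 hH0
    have hm : ∀ a : A, h * ⁅(a : G), v₀⁆ * h⁻¹ ∈ V := fun a =>
      C.norm h hh _ (C.comm_mem (C.aP a.2) (C.point_le hx hv₀))
    refine (Nat.card_eq_of_bijective (fun a : A => (⟨π ⟨_, hm a⟩, (hH0 _).mpr
      ⟨_, conj_mem_cj h (hW ▸ C.quadratic _ a.2 _ (C.point_le hx hv₀)), rfl⟩⟩ : H0)) ⟨?_, ?_⟩).symm
    · intro a b hab
      have h1 : π (⟨_, hm b⟩ * ⟨_, hm a⟩⁻¹) = 0 := by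
        have hab' : π ⟨_, hm a⟩ = π ⟨_, hm b⟩ := congrArg Subtype.val hab
        rw [hπmul, ← hab', ← hπmul, mul_inv_cancel]; rfl
      have h2 := (hπ0 _).mp h1
      refine Subtype.ext (C.eval_inj hx hxM hv₀ hv₀Z a.2 b.2 ?_)
      have h3 := C.z_le (P.inv_mem hh) (hZ.le h2)
      rw [Subgroup.coe_mul, Subgroup.coe_inv] at h2 h3
      rw [show h⁻¹ * (h * ⁅(b : G), v₀⁆ * h⁻¹ * (h * ⁅(a : G), v₀⁆ * h⁻¹)⁻¹) * h⁻¹⁻¹ =
        ⁅(b : G), v₀⁆ * ⁅(a : G), v₀⁆⁻¹ by group] at h3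
      rw [h3, ← hZ]
      exact h2
    · rintro ⟨q, hq⟩
      obtain ⟨v, hv, rfl⟩ := (hH0 q).mp hq
      obtain ⟨a, ha, z, hz, he⟩ := hev v₀ hv₀ hv₀Z _ (hW.le (mem_cj.mp hv))
      refine ⟨⟨a, ha⟩, Subtype.ext ?_⟩
      show π ⟨_, hm ⟨a, ha⟩⟩ = π v
      have hev' : (v : G) = h * ⁅a, v₀⁆ * h⁻¹ * (h * z * h⁻¹) := by
        rw [show h * ⁅a, v₀⁆ * h⁻¹ * (h * z * h⁻¹) = h * (⁅a, v₀⁆ * z) * h⁻¹ by group, he]
        group
      rw [C.z_le hh hz] at hev'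
      rw [show v = ⟨_, hm ⟨a, ha⟩⟩ * ⟨z, hz.1⟩ from Subtype.ext hev', hπmul,
        (hπ0 ⟨z, hz.1⟩).mpr (hZ.ge hz), add_zero]
  have hA0 : A ≠ ⊥ := by
    intro h0
    have hP : P = ⊥ := by
      rw [← C.gen x hx hxM, h0, bot_sup_eq]
      exact Subgroup.map_bot _
    rw [hP, Subgroup.mem_bot] at hx
    exact hxM (hx ▸ M.one_mem)
  obtain ⟨hturn1, hturn2⟩ := C.turn hx hxM
  have hturn : ∀ (a b : ↥P), cj ((a : G) * x) W = cj (b : G) W →
      ∀ q ∈ U0, ∃ w ∈ W0, ρ a q = ρ b w := by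
    intro a b he q hq
    obtain ⟨v, hv, rfl⟩ := (hU0 q).mp hq
    have hmem : (a : G) * v * (a : G)⁻¹ ∈ cj (b : G) W := by
      rw [← he, ← cj_cj]; exact conj_mem_cj _ hv
    have hbm := mem_cj.mp hmem
    refine ⟨π ⟨_, hWV hbm⟩, (hW0 _).mpr ⟨_, hbm, rfl⟩, ?_⟩
    rw [hρ, hρ]
    refine congrArg π (Subtype.ext ?_)
    show (a : G) * v * (a : G)⁻¹ = (b : G) * ((b : G)⁻¹ * ((a : G) * v * (a : G)⁻¹) * b) * (b : G)⁻¹
    group
  have hopp : IsOpposite ρ W0 U0 (A.subgroupOf P) ((cj x A).subgroupOf P) := by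
    refine ⟨?_, ?_, ?_, ?_, ?_, ?_, ?_, ?_, ?_, ?_, ?_, ?_, ?_⟩
    · intro q hq hq'
      obtain ⟨v, hv, rfl⟩ := (hW0 q).mp hq
      obtain ⟨v', hv', he⟩ := (hU0 _).mp hq'
      rw [hπ0, hZ]
      exact C.inter hx hxM (hW ▸ hv) (hW ▸ hcoset _ hZWx v v' hv' he.symm)
    · intro q
      obtain ⟨v, rfl⟩ := hπsurj q
      obtain ⟨w, hw, w', hw', e⟩ := exists_mul_of_comm
        (fun a ha b hb => C.vcomm a (hWV (hW ▸ ha)) b (hWxV (hW ▸ hb))) (hsup.ge v.2)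
      rw [← hW] at hw hw'
      refine ⟨π ⟨w, hWV hw⟩, (hW0 _).mpr ⟨_, hw, rfl⟩, π ⟨w', hWxV hw'⟩, (hU0 _).mpr ⟨_, hw', rfl⟩, ?_⟩
      rw [← hπmul]
      exact congrArg π (Subtype.ext e)
    · intro a ha q hq
      obtain ⟨v, hv, rfl⟩ := (hW0 q).mp hq
      exact hfix a v (mem_cent.mp (hW.le hv).2 _ ha)
    · intro b hb q hq
      obtain ⟨v, hv, rfl⟩ := (hU0 q).mp hq
      exact hfix b v (C.point_fix (hW ▸ hv) hb)
    · intro a ha q
      obtain ⟨v, rfl⟩ := hπsurj q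
      rw [hsub]
      exact (hW0 _).mpr ⟨_, hW ▸ C.quadratic _ ha _ v.2, rfl⟩
    · intro b hb q
      obtain ⟨v, rfl⟩ := hπsurj q
      rw [hsub]
      exact (hU0 _).mpr ⟨_, hW ▸ C.quad_point hx hb v.2, rfl⟩
    · intro a ha ha1 q hq he
      obtain ⟨v, hv, rfl⟩ := (hU0 q).mp hq
      rw [hπ0]
      by_contra hvZ
      rw [← sub_eq_zero, hsub, hπ0] at he
      exact ha1 (Subtype.ext (C.regular hx hxM (hW ▸ hv) (hZ ▸ hvZ) ha (hZ ▸ he)))
    · intro a ha ha1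
      obtain ⟨b, hb, hb1, he⟩ := hturn1 (a : G) ha (fun e => ha1 (Subtype.ext e))
      exact ⟨⟨b, C.cjP hx C.aP hb⟩, hb, fun e => hb1 (congrArg Subtype.val e),
        hturn a ⟨b, _⟩ (hW ▸ he)⟩
    · intro b hb hb1
      obtain ⟨a, ha, ha1, he⟩ := hturn2 (b : G) hb (fun e => hb1 (Subtype.ext e))
      exact ⟨⟨a, C.aP ha⟩, ha, fun e => ha1 (congrArg Subtype.val e), hturn ⟨a, _⟩ b (hW ▸ he)⟩
    · apply Subgroup.map_injective P.subtype_injective
      rw [Subgroup.map_sup, Subgroup.map_subgroupOf_eq_of_le C.aP,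
        Subgroup.map_subgroupOf_eq_of_le (C.cjP hx C.aP), C.gen x hx hxM, ← MonoidHom.range_eq_map,
        P.range_subtype]
    · exact fun h0 => hA0 (by
        rw [← Subgroup.map_subgroupOf_eq_of_le C.aP, h0, Subgroup.map_bot])
    · rw [Nat.card_congr (Subgroup.subgroupOfEquivOfLe C.aP).toEquiv]
      exact hcnt 1 P.one_mem W0 (by rw [cj_one]; exact hW0)
    · rw [Nat.card_congr (Subgroup.subgroupOfEquivOfLe C.aP).toEquiv]
      exact hcnt x hx U0 hU0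
  haveI : Finite Q := inferInstanceAs (Finite (↥V ⧸ N))
  obtain ⟨F, iF, fF, hF, r, ψ, hr, hψ⟩ := recognise ρ hopp
  rw [Nat.card_congr (Subgroup.subgroupOfEquivOfLe C.aP).toEquiv] at hF
  have hrinj : Function.Injective r := by
    refine (injective_iff_map_eq_one r).mpr fun g hg => Subtype.ext ?_
    have hf : ∀ v ∈ V, ⁅(g : G), v⁆ ∈ V ⊓ Subgroup.centralizer (P : Set G) := fun v hv => by
      have e : ψ (ρ g (π ⟨v, hv⟩)) = ψ (π ⟨v, hv⟩) := by
        rw [hψ, hg]; simp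
      have e2 := ψ.injective e
      rw [← sub_eq_zero, hsub, hπ0] at e2
      exact hZ.le e2
    have : (g : G) ∈ P ⊓ Subgroup.centralizer (V : Set G) := ⟨g.2, C.trivial_of_fixes g.2 hf⟩
    rw [hfaith] at this
    exact this
  refine ⟨F, iF, fF, hF, ⟨MulEquiv.ofBijective r ⟨hrinj, hr⟩⟩, by rw [← hW, ← hZ]; exact hWeq, ?_⟩
  refine ⟨fun g hg => ?_, inf_le_left, r,
    { toFun := fun v => Multiplicative.ofAdd (ψ (π v))
      map_one' := by
        show Multiplicative.ofAdd (ψ (0 : Q)) = 1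
        rw [map_zero]; rfl
      map_mul' := fun a b => by rw [hπmul, map_add]; rfl }, ?_, ?_, ?_, ?_⟩
  · refine Subgroup.mem_normalizer_iff.mpr fun v => ⟨fun hv => C.norm g hg v hv, fun hv => ?_⟩
    have := C.norm_inv hg hv
    simpa [mul_assoc] using this
  · exact MonoidHom.range_eq_top.mpr hr
  · intro c
    obtain ⟨q, hq⟩ := ψ.surjective (Multiplicative.toAdd c)
    obtain ⟨v, rfl⟩ := hπsurj q
    exact ⟨v, congrArg Multiplicative.ofAdd hq⟩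
  · intro v
    rw [← hZ, ← hπ0]
    show Multiplicative.ofAdd (ψ (π v)) = 1 ↔ _
    rw [ofAdd_eq_one, AddEquiv.map_eq_zero_iff]
  · intro e v
    refine ⟨⟨_, C.norm e e.2 v v.2⟩, rfl, ?_⟩
    show ψ (π ⟨_, _⟩) = _
    rw [← hρ e v]
    exact hψ e (π v)

end Config

end Cfsg.Agent.Grp.OffenderSL2
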