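import Cfsg.Agent.Lib.Grp.OffenderSL2.Regular
import Cfsg.Agent.Lib.Grp.Basic

/-!
# The points form a spread
-/

set_option autoImplicit false

open scoped commutatorElement

namespace Cfsg.Agent.Grp.OffenderSL2

variable {G : Type*} [Group G] [Finite G]

namespace Config

variable {p : ℕ} [Fact p.Prime] {V P A M T : Subgroup G} (C : Config p V P A M T)
include C

/-- No nontrivial element of `A` lies in another conjugate of `M`. -/
theorem offM {x a : G} (hx : x ∈ P) (hxM : x ∉ M) (ha : a ∈ A) (h : x⁻¹ * a * x ∈ M) : a = 1 := by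
  have hp : IsPGroup p ↥(Subgroup.zpowers (x⁻¹ * a * x)) := by
    refine IsPGroup.to_le ?_ (Subgroup.zpowers_le.mpr
      (show x⁻¹ * a * x ∈ cj x⁻¹ T from mem_cj.mpr (by
        rw [inv_inv, show x * (x⁻¹ * a * x) * x⁻¹ = a by group]
        exact C.aT ha)))
    unfold cj
    exact C.tp.map _
  obtain ⟨m, hm, hle⟩ := C.sylow _ (Subgroup.zpowers_le.mpr h) hp
  obtain ⟨u, huV, huT, huP⟩ := C.moved
  have hgP : x * m ∈ P := P.mul_mem hx (C.mP hm)
  have hgM : x * m ∉ M := fun h' => hxM (by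
    have := M.mul_mem h' (M.inv_mem hm)
    rwa [mul_inv_cancel_right] at this)
  have huA : u ∈ V ⊓ Subgroup.centralizer (A : Set G) := ⟨huV, Subgroup.centralizer_le C.aT huT⟩
  have hfix := mem_cent.mp huT _ (mem_cj.mp (hle (Subgroup.mem_zpowers (x⁻¹ * a * x))))
  refine C.regular hgP hgM (conj_mem_cj (x * m) huA) (fun hz => huP ?_) ha ?_
  · have h2 := C.z_le (P.inv_mem hgP) hz
    rw [show (x * m)⁻¹ * (x * m * u * (x * m)⁻¹) * ((x * m)⁻¹)⁻¹ = u by group] at h2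
    rw [← h2] at hz
    exact hz.2
  · have e : ⁅a, x * m * u * (x * m)⁻¹⁆ =
        (x * m) * ((m⁻¹ * (x⁻¹ * a * x) * m) * u * (m⁻¹ * (x⁻¹ * a * x) * m)⁻¹ * u⁻¹) * (x * m)⁻¹ := by
      simp only [commutatorElement_def]; group
    rw [e, hfix, mul_inv_cancel, mul_one, mul_inv_cancel]
    exact Subgroup.one_mem _

theorem exists_vec {x : G} (hx : x ∈ P) : ∃ v ∈ cj x (V ⊓ Subgroup.centralizer (A : Set G)),
    v ∉ V ⊓ Subgroup.centralizer (P : Set G) := by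
  obtain ⟨u, huV, huT, huP⟩ := C.moved
  refine ⟨x * u * x⁻¹, conj_mem_cj x ⟨huV, Subgroup.centralizer_le C.aT huT⟩, fun hz => huP ?_⟩
  have h2 := C.z_le (P.inv_mem hx) hz
  rw [show x⁻¹ * (x * u * x⁻¹) * x⁻¹⁻¹ = u by group] at h2
  rw [← h2] at hz
  exact hz.2

theorem inf_point {x : G} (hx : x ∈ P) (hxM : x ∉ M) :
    (V ⊓ Subgroup.centralizer (A : Set G)) ⊓ cj x (V ⊓ Subgroup.centralizer (A : Set G)) =
      V ⊓ Subgroup.centralizer (P : Set G) :=
  le_antisymm (fun _ hv => C.inter hx hxM hv.1 hv.2)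
    (le_inf (fun z hz => ⟨hz.1, mem_cent.mpr fun a ha => C.z_le (C.aP ha) hz⟩) (C.z_le_point hx))

theorem eval_inj {x v : G} (hx : x ∈ P) (hxM : x ∉ M)
    (hv : v ∈ cj x (V ⊓ Subgroup.centralizer (A : Set G)))
    (hvZ : v ∉ V ⊓ Subgroup.centralizer (P : Set G)) {a b : G} (ha : a ∈ A) (hb : b ∈ A)
    (h : ⁅b, v⁆ * ⁅a, v⁆⁻¹ ∈ V ⊓ Subgroup.centralizer (P : Set G)) : a = b := by
  have h1 := C.comm_diff (g := 1) (a := a) (a' := b) P.one_mem (by rwa [cj_one]) (by rwa [cj_one])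
    (C.point_le hx hv)
  exact inv_mul_eq_one.mp
    (C.regular hx hxM hv hvZ (A.mul_mem (A.inv_mem ha) hb) (h1 ▸ h))

/-- The orders. -/
theorem cards {x : G} (hx : x ∈ P) (hxM : x ∉ M) :
    Nat.card ↥(V ⊓ Subgroup.centralizer (A : Set G)) =
      Nat.card A * Nat.card ↥(V ⊓ Subgroup.centralizer (P : Set G)) ∧
    Nat.card V = Nat.card A * Nat.card ↥(V ⊓ Subgroup.centralizer (A : Set G)) ∧
    (V ⊓ Subgroup.centralizer (A : Set G)) ⊔ cj x (V ⊓ Subgroup.centralizer (A : Set G)) = V ∧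
    ∀ v ∈ cj x (V ⊓ Subgroup.centralizer (A : Set G)), v ∉ V ⊓ Subgroup.centralizer (P : Set G) →
      ∀ w ∈ V ⊓ Subgroup.centralizer (A : Set G), ∃ a ∈ A, ∃ z ∈ V ⊓ Subgroup.centralizer (P : Set G),
        ⁅a, v⁆ * z = w := by
  classical
  obtain ⟨W, hW⟩ : ∃ W, W = V ⊓ Subgroup.centralizer (A : Set G) := ⟨_, rfl⟩
  obtain ⟨Z, hZ⟩ : ∃ Z, Z = V ⊓ Subgroup.centralizer (P : Set G) := ⟨_, rfl⟩
  rw [← hW, ← hZ]
  have hWV : W ≤ V := hW ▸ inf_le_left
  have hWx : cj x W ≤ V := hW ▸ C.point_le hx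
  have hZW : Z ≤ W := fun z hz => hW ▸ ⟨(hZ.le hz).1,
    mem_cent.mpr fun a ha => C.z_le (C.aP ha) (hZ.le hz)⟩
  have hmap : ∀ v, v ∈ cj x W → ∀ q : A × Z, ⁅(q.1 : G), v⁆ * (q.2 : G) ∈ W := fun v hv q =>
    W.mul_mem (hW ▸ C.quadratic _ q.1.2 v (hWx hv)) (hZW q.2.2)
  have hinj : ∀ v (hv : v ∈ cj x W), v ∉ Z →
      Function.Injective fun q : A × Z => (⟨_, hmap v hv q⟩ : W) := by
    intro v hv hvZ q r h
    have h' := congrArg Subtype.val h
    dsimp only at h'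
    have hqV : ⁅(q.1 : G), v⁆ ∈ V := C.comm_mem (C.aP q.1.2) (hWx hv)
    have hq2V : (q.2 : G) * (r.2 : G)⁻¹ ∈ V := V.mul_mem (hZ.le q.2.2).1 (V.inv_mem (hZ.le r.2.2).1)
    have hz : ⁅(r.1 : G), v⁆ * ⁅(q.1 : G), v⁆⁻¹ ∈ Z := by
      have e : ⁅(r.1 : G), v⁆ * ⁅(q.1 : G), v⁆⁻¹ = (q.2 : G) * (r.2 : G)⁻¹ := by
        rw [mul_inv_eq_iff_eq_mul, C.vcomm _ hq2V _ hqV, ← mul_assoc, h']
        group
      rw [e]
      exact Z.mul_mem q.2.2 (Z.inv_mem r.2.2)
    have h1 : q.1 = r.1 := Subtype.ext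
      (C.eval_inj hx hxM (hW ▸ hv) (hZ ▸ hvZ) q.1.2 r.1.2 (hZ ▸ hz))
    rw [h1] at h'
    exact Prod.ext h1 (Subtype.ext (mul_left_cancel h'))
  obtain ⟨v₀, hv₀, hv₀Z⟩ := C.exists_vec hx
  rw [← hW] at hv₀
  rw [← hZ] at hv₀Z
  have hge : Nat.card A * Nat.card Z ≤ Nat.card W := by
    rw [← Nat.card_prod]
    exact Nat.card_le_card_of_injective _ (hinj v₀ hv₀ hv₀Z)
  have hsup : Nat.card ↥(W ⊔ cj x W) * Nat.card Z = Nat.card W * Nat.card W := by
    have hinf : W ⊓ cj x W = Z := by rw [hW, hZ]; exact C.inf_point hx hxM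
    rw [← hinf, Grp.card_sup_mul_card_inf, card_cj]
    intro w hw
    exact Subgroup.centralizer_le_normalizer _
      (Subgroup.mem_centralizer_iff.mpr fun k hk => C.vcomm k (hWx hk) w (hWV hw))
  have hVle : Nat.card ↥(W ⊔ cj x W) ≤ Nat.card V := Subgroup.card_le_of_le (sup_le hWV hWx)
  have hmeas : Nat.card V ≤ Nat.card A * Nat.card W := hW ▸ C.meas
  have hWle : Nat.card W ≤ Nat.card A * Nat.card Z := by
    refine Nat.le_of_mul_le_mul_left (?_ : Nat.card W * Nat.card W ≤ Nat.card W * _) Nat.card_pos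
    rw [← hsup, mul_left_comm, ← mul_assoc]
    exact Nat.mul_le_mul_right _ (hVle.trans hmeas)
  have heq : Nat.card W = Nat.card A * Nat.card Z := le_antisymm hWle hge
  have hVeq : Nat.card A * Nat.card W ≤ Nat.card ↥(W ⊔ cj x W) := by
    refine Nat.le_of_mul_le_mul_right (?_ : _ * Nat.card Z ≤ _ * Nat.card Z) Nat.card_pos
    rw [hsup, mul_assoc, mul_left_comm, ← heq]
  refine ⟨heq, le_antisymm hmeas (hVeq.trans hVle),
    Subgroup.eq_of_le_of_card_ge (sup_le hWV hWx) (hmeas.trans hVeq), fun v hv hvZ w hw => ?_⟩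
  have hbij := (Nat.bijective_iff_injective_and_card _).mpr
    ⟨hinj v hv hvZ, by rw [Nat.card_prod, heq]⟩
  obtain ⟨q, hq⟩ := hbij.2 ⟨w, hw⟩
  exact ⟨q.1, q.1.2, q.2, q.2.2, congrArg Subtype.val hq⟩

/-- Every vector lies in one of the points. -/
theorem cover {x v : G} (hx : x ∈ P) (hxM : x ∉ M) (hv : v ∈ V)
    (hvZ : v ∉ V ⊓ Subgroup.centralizer (P : Set G)) :
    v ∈ V ⊓ Subgroup.centralizer (A : Set G) ∨
      ∃ a ∈ A, v ∈ cj (a * x) (V ⊓ Subgroup.centralizer (A : Set G)) := by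
  classical
  obtain ⟨W, hW⟩ : ∃ W, W = V ⊓ Subgroup.centralizer (A : Set G) := ⟨_, rfl⟩
  obtain ⟨Z, hZ⟩ : ∃ Z, Z = V ⊓ Subgroup.centralizer (P : Set G) := ⟨_, rfl⟩
  obtain ⟨hc1, hc2, -, -⟩ := C.cards hx hxM
  rw [← hW] at hc1 hc2 ⊢
  rw [← hZ] at hvZ hc1
  have hWV : W ≤ V := hW ▸ inf_le_left
  have hZW : Z ≤ W := fun z hz => hW ▸ ⟨(hZ.le hz).1,
    mem_cent.mpr fun a ha => C.z_le (C.aP ha) (hZ.le hz)⟩
  have hgP : ∀ a : A, (a : G) * x ∈ P := fun a => P.mul_mem (C.aP a.2) hx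
  let g : Option A → G := fun o => o.elim 1 fun a => (a : G) * x
  have hg : ∀ o, g o ∈ P := fun o => by
    cases o with
    | none => exact P.one_mem
    | some a => exact hgP a
  have hsep : ∀ o o', o ≠ o' → (g o)⁻¹ * g o' ∉ M := by
    intro o o' hne h
    cases o with
    | none =>
      cases o' with
      | none => exact hne rfl
      | some a =>
        refine hxM ?_
        have := M.mul_mem (M.inv_mem (C.tM (C.aT a.2))) (by simpa [g] using h)
        simpa using this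
    | some a =>
      cases o' with
      | none =>
        refine hxM ?_
        have h1 := M.inv_mem (by simpa [g] using h : x⁻¹ * (a : G)⁻¹ ∈ M)
        have := M.mul_mem (M.inv_mem (C.tM (C.aT a.2))) h1
        simpa using this
      | some b =>
        refine hne (congrArg some (Subtype.ext (inv_mul_eq_one.mp ?_)))
        refine C.offM hx hxM (A.mul_mem (A.inv_mem a.2) b.2) ?_
        simpa [g, mul_assoc] using h
  let W' := {w : W // (w : G) ∉ Z}
  let V' := {w : V // (w : G) ∉ Z}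
  have hnot : ∀ (o : Option A) (w : G), w ∉ Z → g o * w * (g o)⁻¹ ∉ Z := fun o w hw hz => hw (by
    have h2 := C.z_le (P.inv_mem (hg o)) (hZ.le hz)
    rw [show (g o)⁻¹ * (g o * w * (g o)⁻¹) * (g o)⁻¹⁻¹ = w by group] at h2
    rw [← h2] at hz
    exact hz)
  let f : Option A × W' → V' := fun q =>
    ⟨⟨g q.1 * (q.2.1 : G) * (g q.1)⁻¹, C.norm _ (hg _) _ (hWV q.2.1.2)⟩, hnot _ _ q.2.2⟩
  have hf : Function.Injective f := by
    intro q r h
    have h' : g q.1 * (q.2.1 : G) * (g q.1)⁻¹ = g r.1 * (r.2.1 : G) * (g r.1)⁻¹ :=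
      congrArg (fun t : V' => (t.1 : G)) h
    have h1 : q.1 = r.1 := by
      by_contra hne
      refine hnot q.1 _ q.2.2 ?_
      refine hZ.ge (C.inter' (hg q.1) (hg r.1) (hsep _ _ hne) ?_ ?_)
      · exact cj_mono _ hW.le (conj_mem_cj _ q.2.1.2)
      · rw [h']; exact cj_mono _ hW.le (conj_mem_cj _ r.2.1.2)
    rw [h1] at h'
    exact Prod.ext h1 (Subtype.ext (Subtype.ext (mul_left_cancel (mul_right_cancel h'))))
  have hcW : ∀ H : Subgroup G, Z ≤ H →
      Nat.card {w : H // (w : G) ∉ Z} + Nat.card Z = Nat.card H := by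
    intro H hH
    have e : Nat.card Z = Nat.card {w : H // (w : G) ∈ Z} :=
      Nat.card_congr ⟨fun z => ⟨⟨z, hH z.2⟩, z.2⟩, fun w => ⟨(w.1 : G), w.2⟩, fun _ => rfl, fun _ => rfl⟩
    rw [e, add_comm, ← Nat.card_sum]
    exact Nat.card_congr (Equiv.sumCompl _)
  have hbij := (Nat.bijective_iff_injective_and_card f).mpr ⟨hf, by
    rw [Nat.card_prod, Finite.card_option]
    have h1 : Nat.card W' + Nat.card Z = Nat.card W := hcW W hZW
    have h2 : Nat.card V' + Nat.card Z = Nat.card V := hcW V (hZW.trans hWV)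
    rw [hc1] at h1 hc2
    rw [hc2] at h2
    have h3 : (Nat.card A + 1) * Nat.card W' + Nat.card Z = Nat.card V' + Nat.card Z := by
      rw [h2]
      have h4 : Nat.card A * (Nat.card W' + Nat.card Z) = Nat.card A * (Nat.card A * Nat.card Z) := by
        rw [h1]
      linarith
    exact Nat.add_right_cancel h3⟩
  obtain ⟨q, hq⟩ := hbij.2 ⟨⟨v, hv⟩, hvZ⟩
  have hq' : g q.1 * (q.2.1 : G) * (g q.1)⁻¹ = v := congrArg (fun t : V' => (t.1 : G)) hq
  rcases hq1 : q.1 with _ | a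
  · left
    rw [hq1] at hq'
    have : (q.2.1 : G) = v := by simpa [g] using hq'
    exact this ▸ q.2.1.2
  · right
    rw [hq1] at hq'
    exact ⟨a, a.2, hq' ▸ conj_mem_cj _ q.2.1.2⟩

/-- The elements of `M` fix the point. -/
theorem cj_of_mem {m : G} (hm : m ∈ M) :
    cj m (V ⊓ Subgroup.centralizer (A : Set G)) = V ⊓ Subgroup.centralizer (A : Set G) := by
  obtain ⟨x, hx, hxM⟩ := C.ne
  refine Subgroup.eq_of_le_of_card_ge (fun v hv => ?_) (card_cj m _).ge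
  by_cases hvZ : v ∈ V ⊓ Subgroup.centralizer (P : Set G)
  · exact ⟨hvZ.1, mem_cent.mpr fun a ha => C.z_le (C.aP ha) hvZ⟩
  rcases C.cover hx hxM (C.point_le (C.mP hm) hv) hvZ with h | ⟨a, ha, h⟩
  · exact h
  · refine absurd (C.inter' (C.mP hm) (P.mul_mem (C.aP ha) hx) (fun h' => hxM ?_) hv h) hvZ
    have := M.mul_mem (M.inv_mem (C.tM (C.aT ha))) (M.mul_mem hm h')
    simpa using this

/-- Every point off the first one is in the orbit of `A`. -/
theorem point_eq {x g : G} (hx : x ∈ P) (hxM : x ∉ M) (hg : g ∈ P) (hgM : g ∉ M) :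
    ∃ a ∈ A, cj g (V ⊓ Subgroup.centralizer (A : Set G)) =
      cj (a * x) (V ⊓ Subgroup.centralizer (A : Set G)) := by
  obtain ⟨v, hv, hvZ⟩ := C.exists_vec hg
  rcases C.cover hx hxM (C.point_le hg hv) hvZ with h | ⟨a, ha, h⟩
  · exact absurd (C.inter hg hgM h hv) hvZ
  · refine ⟨a, ha, ?_⟩
    have hmem : g⁻¹ * (a * x) ∈ M := by
      by_contra h'
      exact hvZ (C.inter' hg (P.mul_mem (C.aP ha) hx) h' hv h)
    conv_lhs => rw [← C.cj_of_mem hmem]
    rw [cj_cj, mul_inv_cancel_left]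

theorem point_ne {g h : G} (hg : g ∈ P) (hh : h ∈ P) (hgh : g⁻¹ * h ∉ M) :
    cj g (V ⊓ Subgroup.centralizer (A : Set G)) ≠ cj h (V ⊓ Subgroup.centralizer (A : Set G)) := by
  intro e
  obtain ⟨v, hv, hvZ⟩ := C.exists_vec hg
  exact hvZ (C.inter' hg hh hgh hv (e ▸ hv))

/-- The two regular groups have the same orbit. -/
theorem turn {x : G} (hx : x ∈ P) (hxM : x ∉ M) :
    (∀ a ∈ A, a ≠ 1 → ∃ b ∈ cj x A, b ≠ 1 ∧
      cj (a * x) (V ⊓ Subgroup.centralizer (A : Set G)) = cj b (V ⊓ Subgroup.centralizer (A : Set G))) ∧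
    (∀ b ∈ cj x A, b ≠ 1 → ∃ a ∈ A, a ≠ 1 ∧
      cj (a * x) (V ⊓ Subgroup.centralizer (A : Set G)) = cj b (V ⊓ Subgroup.centralizer (A : Set G))) := by
  have hxi : x⁻¹ ∈ P := P.inv_mem hx
  have hxiM : x⁻¹ ∉ M := fun h => hxM (by simpa using M.inv_mem h)
  refine ⟨fun a ha ha1 => ?_, fun b hb hb1 => ?_⟩
  · have hgM : x⁻¹ * a * x ∉ M := fun h => ha1 (C.offM hx hxM ha h)
    obtain ⟨a', ha', he⟩ := C.point_eq hxi hxiM
      (P.mul_mem (P.mul_mem hxi (C.aP ha)) hx) hgM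
    refine ⟨x * a' * x⁻¹, conj_mem_cj x ha', fun h1 => ?_, ?_⟩
    · have h2 : a' = 1 := by
        have := congrArg (fun t => x⁻¹ * t * x) h1
        simpa [mul_assoc] using this
      rw [h2, one_mul] at he
      refine C.point_ne (P.mul_mem (P.mul_mem hxi (C.aP ha)) hx) hxi ?_ he
      intro h3
      refine hxM ?_
      have h4 : x⁻¹ * a⁻¹ ∈ M := by simpa [mul_assoc] using h3
      simpa using M.mul_mem (M.inv_mem (C.tM (C.aT ha))) (M.inv_mem h4)
    · have := congrArg (cj x) he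
      rw [cj_cj, cj_cj] at this
      simpa [mul_assoc] using this
  · have hbP : b ∈ P := C.cjP hx C.aP hb
    have hbM : b ∉ M := fun h => hb1 (by
      have h1 := C.offM hxi hxiM (mem_cj.mp hb) (by simpa [mul_assoc] using h)
      have := congrArg (fun t => x * t * x⁻¹) h1
      simpa [mul_assoc] using this)
    obtain ⟨a, ha, he⟩ := C.point_eq hx hxM hbP hbM
    refine ⟨a, ha, fun h1 => ?_, he.symm⟩
    rw [h1, one_mul] at he
    refine C.point_ne hbP hx (fun h2 => hxM ?_) he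
    have hb' : x⁻¹ * b * x ∈ M := C.tM (C.aT (mem_cj.mp hb))
    have e : x⁻¹ * b * x * (b⁻¹ * x)⁻¹ = x⁻¹ * b * b := by group
    have e2 : (b⁻¹ * x) * (x⁻¹ * b * x) = x := by group
    exact e2 ▸ M.mul_mem h2 hb'

end Config

end Cfsg.Agent.Grp.OffenderSL2
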