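import Cfsg.Agent.Lib.Grp.OffenderSL2.Setup

/-!
# The offender acts regularly off its point
-/

set_option autoImplicit false

open scoped commutatorElement

namespace Cfsg.Agent.Grp.OffenderSL2

variable {G : Type*} [Group G] [Finite G]

/-- Elements of a join of commuting subgroups are products. -/
theorem exists_mul_of_comm {H K : Subgroup G} (hc : ∀ h ∈ H, ∀ k ∈ K, h * k = k * h) {x : G}
    (hx : x ∈ H ⊔ K) : ∃ h ∈ H, ∃ k ∈ K, h * k = x := by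
  rw [← SetLike.mem_coe, Subgroup.coe_mul_of_left_le_normalizer_right _ _ ?_] at hx
  · exact Set.mem_mul.mp hx
  intro h hh
  exact Subgroup.centralizer_le_normalizer _
    (Subgroup.mem_centralizer_iff.mpr fun k hk => (hc h hh k hk).symm)

namespace Config

variable {p : ℕ} [Fact p.Prime] {V P A M T : Subgroup G} (C : Config p V P A M T)
include C

theorem quad_point {g b v : G} (hg : g ∈ P) (hb : b ∈ cj g A) (hv : v ∈ V) :
    ⁅b, v⁆ ∈ cj g (V ⊓ Subgroup.centralizer (A : Set G)) := by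
  refine mem_cj.mpr ?_
  have e : g⁻¹ * ⁅b, v⁆ * g = ⁅g⁻¹ * b * g, g⁻¹ * v * g⁆ := by
    simp only [commutatorElement_def]; group
  rw [e]
  exact C.quadratic _ (mem_cj.mp hb) _ (C.norm_inv hg hv)

theorem comm_point {g a a' v : G} (hg : g ∈ P) (ha : a ∈ cj g A) (ha' : a' ∈ cj g A) (hv : v ∈ V) :
    ⁅a * a', v⁆ = ⁅a', v⁆ * ⁅a, v⁆ := by
  have e : ⁅a * a', v⁆ = a * ⁅a', v⁆ * a⁻¹ * ⁅a, v⁆ := by simp only [commutatorElement_def]; group
  rw [e, C.point_fix (C.quad_point hg ha' hv) ha]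

theorem comm_diff {g a a' v : G} (hg : g ∈ P) (ha : a ∈ cj g A) (ha' : a' ∈ cj g A) (hv : v ∈ V) :
    ⁅a⁻¹ * a', v⁆ = ⁅a', v⁆ * ⁅a, v⁆⁻¹ := by
  have h := C.comm_point hg ha (Subgroup.mul_mem _ (Subgroup.inv_mem _ ha) ha') hv
  rw [mul_inv_cancel_left] at h
  rw [h, mul_inv_cancel_right]

/-- The offender is regular on the vectors of the other points. -/
theorem regular {g v a : G} (hg : g ∈ P) (hgM : g ∉ M)
    (hv : v ∈ cj g (V ⊓ Subgroup.centralizer (A : Set G)))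
    (hvZ : v ∉ V ⊓ Subgroup.centralizer (P : Set G)) (ha : a ∈ A)
    (hf : ⁅a, v⁆ ∈ V ⊓ Subgroup.centralizer (P : Set G)) : a = 1 := by
  classical
  obtain ⟨W, hW⟩ : ∃ W, W = V ⊓ Subgroup.centralizer (A : Set G) := ⟨_, rfl⟩
  obtain ⟨Z, hZ⟩ : ∃ Z, Z = V ⊓ Subgroup.centralizer (P : Set G) := ⟨_, rfl⟩
  rw [← hW] at hv
  rw [← hZ] at hvZ hf
  by_contra ha1
  obtain ⟨Sset, hSset⟩ : ∃ S : Set (Subgroup G), S = {K | ∃ g v, g ∈ P ∧ g ∉ M ∧ v ∈ cj g W ∧ v ∉ Z ∧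
      K = A ⊓ C.stab v} := ⟨_, rfl⟩
  have hne : (A ⊓ C.stab v : Subgroup G) ∈ Sset := by
    rw [hSset]; exact ⟨g, v, hg, hgM, hv, hvZ, rfl⟩
  obtain ⟨A1, hA1, hmax⟩ := (Set.toFinite Sset).exists_maximalFor
    (fun K : Subgroup G => Nat.card K) _ ⟨_, hne⟩
  have hcardmax : ∀ K ∈ Sset, Nat.card K ≤ Nat.card A1 := fun K hK =>
    (le_total (Nat.card K) (Nat.card A1)).elim id (hmax hK)
  have hA1ne : A1 ≠ ⊥ := by
    intro e
    have h := hcardmax _ hne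
    rw [e, Subgroup.card_bot] at h
    have hb : (A ⊓ C.stab v : Subgroup G) = ⊥ :=
      Subgroup.card_eq_one.mp (le_antisymm h Nat.card_pos)
    have : a ∈ (A ⊓ C.stab v : Subgroup G) := ⟨ha, C.aP ha, hZ ▸ hf⟩
    rw [hb, Subgroup.mem_bot] at this
    exact ha1 this
  rw [hSset] at hA1
  obtain ⟨g₁, v₁, hg₁, hg₁M, hv₁, hv₁Z, rfl⟩ := hA1
  -- the maximal stabiliser lies in the conjugate of `M`
  have hin : cj g₁⁻¹ (A ⊓ C.stab v₁) ≤ M := by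
    intro x hx
    have hx' := mem_cj.mp hx
    rw [inv_inv] at hx'
    obtain ⟨hxA, hxP, hxf⟩ := hx'
    have e : g₁⁻¹ * (g₁ * x * g₁⁻¹) * g₁ = x := by group
    have h := C.fixes_conj hg₁ hxf
    rw [e] at h
    refine C.fixes_mem ?_ (by rw [← hW]; exact mem_cj.mp hv₁) (fun hz => hv₁Z ?_) h
    · have := P.mul_mem (P.mul_mem (P.inv_mem hg₁) hxP) hg₁
      rwa [e] at this
    · have h2 := C.z_le hg₁ hz
      have e2 : g₁ * (g₁⁻¹ * v₁ * g₁) * g₁⁻¹ = v₁ := by group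
      rw [e2] at h2
      rw [hZ, h2]
      exact hz
  have hA1p : IsPGroup p ↥(A ⊓ C.stab v₁) := C.tp.to_le (inf_le_left.trans C.aT)
  obtain ⟨m, hm, hmle⟩ := C.sylow (cj g₁⁻¹ (A ⊓ C.stab v₁)) hin (by
    unfold cj; exact hA1p.map _)
  obtain ⟨y, hy⟩ : ∃ y, y = g₁ * m := ⟨_, rfl⟩
  have hyP : y ∈ P := hy ▸ P.mul_mem hg₁ (C.mP hm)
  have hyM : y ∉ M := fun h => hg₁M (by
    have := M.mul_mem h (M.inv_mem hm)
    rwa [hy, mul_inv_cancel_right] at this)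
  have hA1T : A ⊓ C.stab v₁ ≤ cj y T := by
    have := cj_mono g₁ hmle
    rwa [cj_cj, cj_cj, mul_inv_cancel, cj_one, ← hy] at this
  obtain ⟨A1, hA1⟩ : ∃ A1, A1 = A ⊓ C.stab v₁ := ⟨_, rfl⟩
  rw [← hA1] at hA1T hA1ne hA1p
  have hcardmax' : ∀ K ∈ Sset, Nat.card K ≤ Nat.card A1 := hA1 ▸ hcardmax
  have hA1A : A1 ≤ A := hA1 ▸ inf_le_left
  have hBT : cj y A ≤ cj y T := cj_mono y C.aT
  have hTP : cj y T ≤ P := C.cjP hyP (C.tM.trans C.mP)
  have hTp : IsPGroup p ↥(cj y T) := by unfold cj; exact C.tp.map _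
  have hH := C.sup_vgroup hTp hTP
  have hWV : W ≤ V := hW ▸ inf_le_left
  have hZW : Z ≤ W := fun z hz => hW ▸ ⟨(hZ.le hz).1,
    mem_cent.mpr fun a ha => C.z_le (C.aP ha) (hZ.le hz)⟩
  have hWy : cj y W ≤ V := hW ▸ C.point_le hyP
  have hZWy : Z ≤ cj y W := by rw [hZ, hW]; exact C.z_le_point hyP
  have hint : ∀ x, x ∈ W → x ∈ cj y W → x ∈ Z := fun x h1 h2 => by
    rw [hZ]; rw [hW] at h1 h2; exact C.inter hyP hyM h1 h2
  obtain ⟨L, hL⟩ : ∃ L, L = W ⊔ cj y W := ⟨_, rfl⟩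
  have hLV : L ≤ V := hL ▸ sup_le hWV hWy
  have hAfix : ∀ a ∈ A, ∀ w ∈ W, a * w * a⁻¹ = w := fun a ha w hw =>
    mem_cent.mp (hW.le hw).2 a ha
  have hBfix : ∀ b ∈ cj y A, ∀ w ∈ cj y W, b * w * b⁻¹ = w := fun b hb w hw =>
    C.point_fix (hW ▸ hw) hb
  have hmove : ∀ r l : G, r * l * r⁻¹ = ⁅r, l⁆ * l := fun r l => by
    simp only [commutatorElement_def]; group
  have hRL : ∀ r ∈ A1 ⊔ cj y A, ∀ l ∈ L, r * l * r⁻¹ ∈ L := by
    have hAn : ∀ r ∈ A1, ∀ l ∈ L, r * l * r⁻¹ ∈ L := fun r hr l hl => by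
      rw [hmove]
      refine L.mul_mem ?_ hl
      rw [hL, hW]
      exact Subgroup.mem_sup_left (C.quadratic r (hA1A hr) l (hLV hl))
    have hBn : ∀ r ∈ cj y A, ∀ l ∈ L, r * l * r⁻¹ ∈ L := fun r hr l hl => by
      rw [hmove]
      refine L.mul_mem ?_ hl
      rw [hL, hW]
      exact Subgroup.mem_sup_right (C.quad_point hyP hr (hLV hl))
    suffices h : ∀ r ∈ A1 ⊔ cj y A, (∀ l ∈ L, r * l * r⁻¹ ∈ L) ∧ ∀ l ∈ L, r⁻¹ * l * r ∈ L from
      fun r hr => (h r hr).1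
    intro r hr
    rw [Subgroup.sup_eq_closure] at hr
    induction hr using Subgroup.closure_induction with
    | mem x hx =>
      rcases hx with hx | hx
      · exact ⟨hAn x hx, fun l hl => by simpa using hAn x⁻¹ (A1.inv_mem hx) l hl⟩
      · exact ⟨hBn x hx, fun l hl => by simpa using hBn x⁻¹ (Subgroup.inv_mem _ hx) l hl⟩
    | one => exact ⟨fun l hl => by simpa using hl, fun l hl => by simpa using hl⟩
    | mul a b _ _ iha ihb =>
      refine ⟨fun l hl => ?_, fun l hl => ?_⟩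
      · have := iha.1 _ (ihb.1 l hl); simpa [mul_assoc] using this
      · have := ihb.2 _ (iha.2 l hl); simpa [mul_assoc] using this
    | inv a _ iha =>
      exact ⟨fun l hl => by simpa using iha.2 l hl, fun l hl => by simpa using iha.1 l hl⟩
  obtain ⟨u, huV, huT, huP⟩ := C.moved
  have huW : u ∈ W := hW ▸ ⟨huV, Subgroup.centralizer_le C.aT huT⟩
  have huZ : u ∉ Z := fun h => huP (hZ.le h).2
  have hLy : ¬ L ≤ cj y W := fun hle =>
    huZ (hint u huW (hle (hL ▸ Subgroup.mem_sup_left huW)))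
  obtain ⟨l, hl, hlU, hlev⟩ := C.exists_level hH (L := L) (R := A1 ⊔ cj y A) (U := cj y W)
    (hLV.trans le_sup_right) ((sup_le hA1T hBT).trans le_sup_left) hRL hLy
  obtain ⟨w, hw, w', hw', rfl⟩ := exists_mul_of_comm (H := W) (K := cj y W)
    (fun a ha b hb => C.vcomm a (hWV ha) b (hWy hb)) (hL.le hl)
  have hwZ : w ∉ Z := fun h => hlU (Subgroup.mul_mem _ (hZWy h) hw')
  -- `w` is fixed modulo `Z` by every conjugate of `A1` under the conjugate of `A`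
  have hP1 : ∀ a ∈ A1, a ∈ P := fun a ha => C.aP (hA1A ha)
  have hPB : ∀ b ∈ cj y A, b ∈ P := fun b hb => C.cjP hyP C.aP hb
  have hBw : ∀ b ∈ cj y A, ⁅b, w * w'⁆ = ⁅b, w⁆ := fun b hb => by
    rw [C.comm_mul_right (hPB b hb) (hWV hw) (hWy hw')]
    have : ⁅b, w'⁆ = 1 := by rw [commutatorElement_def, hBfix b hb w' hw', mul_inv_cancel]
    rw [this, mul_one]
  have haa : ∀ a ∈ A1, ∀ b ∈ cj y A, ⁅a, ⁅b, w⁆⁆ ∈ Z := by
    intro a ha b hb
    refine hint _ ?_ ?_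
    · rw [hW]
      exact C.quadratic a (hA1A ha) _ (C.comm_mem (hPB b hb) (hWV hw))
    · rw [← hBw b hb]
      exact (hlev b (Subgroup.mem_sup_right hb)).2 a (Subgroup.mem_sup_left ha)
  have hR1 : ∀ a ∈ A1, ∀ b ∈ cj y A, Fixes Z w (b⁻¹ * a * b) := by
    intro a ha b hb
    obtain ⟨c, hc⟩ : ∃ c, c = ⁅b, w⁆ := ⟨_, rfl⟩
    have hcy : c ∈ cj y W := hc ▸ hW ▸ C.quad_point hyP hb (hWV hw)
    have hcV : c ∈ V := hWy hcy
    have hbi : b⁻¹ * c * b = c := by simpa using hBfix b⁻¹ (Subgroup.inv_mem _ hb) c hcy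
    have hz := haa a ha b hb
    rw [← hc] at hz
    have hbz : b⁻¹ * ⁅a, c⁆ * b = ⁅a, c⁆ := by
      simpa using C.z_le (P.inv_mem (hPB b hb)) (hZ.le hz)
    have e1 : a * (b * w * b⁻¹) * a⁻¹ = ⁅a, c⁆ * c * w := by
      rw [hmove b w, ← hc, show a * (c * w) * a⁻¹ = (a * c * a⁻¹) * (a * w * a⁻¹) by group,
        hAfix a (hA1A ha) w hw, hmove a c]
    show _ ∈ Z
    have e2 : ⁅b⁻¹ * a * b, w⁆ = b⁻¹ * (a * (b * w * b⁻¹) * a⁻¹) * b * w⁻¹ := by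
      simp only [commutatorElement_def]; group
    have e3 : b⁻¹ * w * b = c⁻¹ * w := by
      have h1 : b * w * b⁻¹ = c * w := by rw [hmove b w, hc]
      calc b⁻¹ * w * b = (b⁻¹ * c * b)⁻¹ * (b⁻¹ * (c * w) * b) := by group
        _ = c⁻¹ * w := by rw [hbi, ← h1]; group
    rw [e2, e1, show b⁻¹ * (⁅a, c⁆ * c * w) * b * w⁻¹ =
      (b⁻¹ * ⁅a, c⁆ * b) * (b⁻¹ * c * b) * (b⁻¹ * w * b) * w⁻¹ by group, hbz, hbi, e3]
    simpa [mul_assoc] using hz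
  obtain ⟨R1, hR1def⟩ : ∃ R1, R1 = Subgroup.closure {r | ∃ a ∈ A1, ∃ b ∈ cj y A, r = b⁻¹ * a * b} :=
    ⟨_, rfl⟩
  have hR1mem : ∀ a ∈ A1, ∀ b ∈ cj y A, b⁻¹ * a * b ∈ R1 := fun a ha b hb =>
    hR1def ▸ Subgroup.subset_closure ⟨a, ha, b, hb, rfl⟩
  have hR1M : R1 ≤ M := by
    rw [hR1def, Subgroup.closure_le]
    rintro _ ⟨a, ha, b, hb, rfl⟩
    refine C.fixes_mem (P.mul_mem (P.mul_mem (P.inv_mem (hPB b hb)) (hP1 a ha)) (hPB b hb)) (hW ▸ hw)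
      (hZ ▸ hwZ) ?_
    rw [← hZ]
    exact hR1 a ha b hb
  have hR1p : IsPGroup p R1 := by
    refine hTp.to_le ?_
    rw [hR1def, Subgroup.closure_le]
    rintro _ ⟨a, ha, b, hb, rfl⟩
    exact Subgroup.mul_mem _ (Subgroup.mul_mem _ (Subgroup.inv_mem _ (hBT hb)) (hA1T ha)) (hBT hb)
  obtain ⟨m₀, hm₀, hm₀le⟩ := C.sylow R1 hR1M hR1p
  obtain ⟨u', hu'⟩ : ∃ u', u' = m₀ * u * m₀⁻¹ := ⟨_, rfl⟩
  have hm₀P : m₀ ∈ P := C.mP hm₀
  have hu'V : u' ∈ V := hu' ▸ C.norm m₀ hm₀P u huV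
  have hu'T : ∀ t ∈ cj m₀ T, t * u' * t⁻¹ = u' := by
    intro t ht
    have h := mem_cent.mp huT _ (mem_cj.mp ht)
    calc t * u' * t⁻¹ = m₀ * ((m₀⁻¹ * t * m₀) * u * (m₀⁻¹ * t * m₀)⁻¹) * m₀⁻¹ := by rw [hu']; group
      _ = u' := by rw [h, hu']
  have hu'Z : u' ∉ Z := fun h => huZ (by
    have h2 := C.z_le (P.inv_mem hm₀P) (hZ.le h)
    rw [inv_inv, hu', show m₀⁻¹ * (m₀ * u * m₀⁻¹) * m₀ = u by group] at h2
    rw [hu', ← h2] at h
    exact h)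
  have hu'fix : ∀ r ∈ R1, r * u' * r⁻¹ = u' := fun r hr => hu'T r (hm₀le hr)
  have hau : ∀ a ∈ A1, a * u' * a⁻¹ = u' := fun a ha =>
    hu'fix a (by simpa using hR1mem a ha 1 (Subgroup.one_mem _))
  have himage : ∀ a ∈ A1, ∀ b ∈ cj y A, a * ⁅b, u'⁆ * a⁻¹ = ⁅b, u'⁆ := by
    intro a ha b hb
    have h := hu'fix _ (hR1mem a ha b hb)
    calc a * ⁅b, u'⁆ * a⁻¹
        = b * ((b⁻¹ * a * b) * u' * (b⁻¹ * a * b)⁻¹) * b⁻¹ * (a * u' * a⁻¹)⁻¹ := by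
          simp only [commutatorElement_def]; group
      _ = ⁅b, u'⁆ := by rw [h, hau a ha]; simp only [commutatorElement_def]
  obtain ⟨D, hD⟩ : ∃ D, D = (cj y A ⊓ C.stab u' : Subgroup G) := ⟨_, rfl⟩
  by_cases hA1top : A1 = A
  · -- the whole of `A` cannot be a stabiliser
    have hBu : ∀ b ∈ cj y A, b * u' * b⁻¹ = u' := fun b hb =>
      C.fixes_exact hm₀P hu'V hu'T (hPB b hb) (by
        rw [← hZ]
        refine hint _ ?_ (hW ▸ C.quad_point hyP hb hu'V)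
        rw [hW]
        exact ⟨C.comm_mem (hPB b hb) hu'V, mem_cent.mpr fun a ha => himage a (hA1top ▸ ha) b hb⟩)
    refine hu'Z (hint u' (hW ▸ ⟨hu'V, mem_cent.mpr fun a ha => hau a (hA1top ▸ ha)⟩) ?_)
    refine mem_cj.mpr (hW ▸ ⟨C.norm_inv hyP hu'V, mem_cent.mpr fun a ha => ?_⟩)
    calc a * (y⁻¹ * u' * y) * a⁻¹ = y⁻¹ * ((y * a * y⁻¹) * u' * (y * a * y⁻¹)⁻¹) * y := by group
      _ = y⁻¹ * u' * y := by rw [hBu _ (conj_mem_cj y ha)]
  have hDcard : Nat.card D ≤ Nat.card A1 := by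
    obtain ⟨K, hK⟩ : ∃ K, K = (A ⊓ C.stab (y⁻¹ * u' * y) : Subgroup G) := ⟨_, rfl⟩
    refine le_trans ?_ (hcardmax' K ?_)
    · refine Nat.card_le_card_of_injective (fun d : D => (⟨y⁻¹ * (d : G) * y, ?_⟩ : K)) ?_
      · have hd : (d : G) ∈ cj y A ∧ ((d : G) ∈ P ∧ Fixes _ u' (d : G)) := hD.le d.2
        exact hK ▸ ⟨mem_cj.mp hd.1, P.mul_mem (P.mul_mem (P.inv_mem hyP) hd.2.1) hyP,
          C.fixes_conj hyP hd.2.2⟩
      · intro d d' h
        have h' := congrArg Subtype.val h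
        exact Subtype.ext (mul_left_cancel (mul_right_cancel h'))
    · rw [hSset]
      refine ⟨y⁻¹ * m₀, y⁻¹ * u' * y, P.mul_mem (P.inv_mem hyP) hm₀P, fun h => hyM ?_, ?_, ?_, hK⟩
      · have := M.inv_mem (M.mul_mem h (M.inv_mem hm₀))
        rwa [mul_inv_cancel_right, inv_inv] at this
      · refine mem_cj.mpr ?_
        rw [show (y⁻¹ * m₀)⁻¹ * (y⁻¹ * u' * y) * (y⁻¹ * m₀) = u by rw [hu']; group]
        exact huW
      · intro h
        have h2 := C.z_le hyP (hZ.le h)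
        rw [show y * (y⁻¹ * u' * y) * y⁻¹ = u' by group] at h2
        exact hu'Z (h2 ▸ h)
  have hdiff : ∀ b ∈ cj y A, ∀ b' ∈ cj y A, ⁅b', u'⁆ * ⁅b, u'⁆⁻¹ ∈ Z → b⁻¹ * b' ∈ D :=
    fun b hb b' hb' h => hD ▸ ⟨Subgroup.mul_mem _ (Subgroup.inv_mem _ hb) hb',
      P.mul_mem (P.inv_mem (hPB b hb)) (hPB b' hb'),
      (by show _ ∈ _; rw [C.comm_diff hyP hb hb' hu'V, ← hZ]; exact h)⟩
  have hcount : (D.subgroupOf (cj y A)).index * Nat.card W ≤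
      Nat.card ↥(V ⊓ Subgroup.centralizer (A1 : Set G)) := by
    rw [Subgroup.index_eq_card, ← Nat.card_prod]
    refine Nat.card_le_card_of_injective (fun q => (⟨⁅(q.1.out : G), u'⁆ * (q.2 : G), ?_⟩ :
      ↥(V ⊓ Subgroup.centralizer (A1 : Set G)))) ?_
    · refine ⟨V.mul_mem (C.comm_mem (hPB _ q.1.out.2) hu'V) (hWV q.2.2), mem_cent.mpr fun a ha => ?_⟩
      rw [show a * (⁅(q.1.out : G), u'⁆ * (q.2 : G)) * a⁻¹ =
        (a * ⁅(q.1.out : G), u'⁆ * a⁻¹) * (a * (q.2 : G) * a⁻¹) by group,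
        himage a ha _ q.1.out.2, hAfix a (hA1A ha) _ q.2.2]
    · intro q r h
      have h' := congrArg Subtype.val h
      dsimp only at h'
      have hz : ⁅(r.1.out : G), u'⁆ * ⁅(q.1.out : G), u'⁆⁻¹ ∈ Z := by
        have h1 := C.quad_point hyP q.1.out.2 hu'V
        have h2 := C.quad_point hyP r.1.out.2 hu'V
        rw [← hW] at h1 h2
        refine hint _ ?_ (Subgroup.mul_mem _ h2 (Subgroup.inv_mem _ h1))
        have e : ⁅(r.1.out : G), u'⁆ * ⁅(q.1.out : G), u'⁆⁻¹ = (q.2 : G) * (r.2 : G)⁻¹ := by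
          rw [mul_inv_eq_iff_eq_mul, C.vcomm _ (V.mul_mem (hWV q.2.2) (V.inv_mem (hWV r.2.2))) _ (hWy h1),
            ← mul_assoc, h']
          group
        rw [e]
        exact W.mul_mem q.2.2 (W.inv_mem r.2.2)
      have h1 : q.1 = r.1 := by
        rw [← QuotientGroup.out_eq' q.1, ← QuotientGroup.out_eq' r.1]
        refine QuotientGroup.eq.mpr ?_
        rw [Subgroup.mem_subgroupOf]
        exact hdiff _ q.1.out.2 _ r.1.out.2 hz
      rw [h1] at h'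
      exact Prod.ext h1 (Subtype.ext (mul_left_cancel h'))
  have hDB : D ≤ cj y A := hD ▸ inf_le_left
  have hidx : Nat.card D * (D.subgroupOf (cj y A)).index = Nat.card A := by
    rw [← Nat.card_congr (Subgroup.subgroupOfEquivOfLe hDB).toEquiv, Subgroup.card_mul_index, card_cj]
  have hstrict := C.strict A1 hA1A hA1ne hA1top
  rw [← hW] at hstrict
  have : Nat.card A * Nat.card W ≤
      Nat.card A1 * Nat.card ↥(V ⊓ Subgroup.centralizer (A1 : Set G)) := by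
    rw [← hidx, mul_assoc]
    exact Nat.mul_le_mul hDcard hcount
  exact absurd hstrict this.not_gt

end Config

end Cfsg.Agent.Grp.OffenderSL2
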