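import Cfsg.Agent.Lib.Transfer.Timmesfeld
import Mathlib

/-!
# Offenders generating a minimal group with each conjugate: quadratic action and regularity
-/

set_option autoImplicit false

open scoped commutatorElement

namespace Cfsg.Agent.Grp.OffenderSL2

variable {G : Type*} [Group G]

/-- The conjugate `g H g⁻¹`. -/
def cj (g : G) (H : Subgroup G) : Subgroup G := H.map (MulAut.conj g).toMonoidHom

theorem mem_cj {g x : G} {H : Subgroup G} : x ∈ cj g H ↔ g⁻¹ * x * g ∈ H := by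
  refine ⟨?_, fun h => ⟨_, h, by simp [MulAut.conj_apply, mul_assoc]⟩⟩
  rintro ⟨y, hy, rfl⟩
  simpa [MulAut.conj_apply, mul_assoc] using hy

theorem conj_mem_cj (g : G) {x : G} {H : Subgroup G} (h : x ∈ H) : g * x * g⁻¹ ∈ cj g H :=
  mem_cj.mpr (by simpa [mul_assoc] using h)

theorem cj_cj (g h : G) (H : Subgroup G) : cj g (cj h H) = cj (g * h) H := by
  ext x
  simp only [mem_cj, mul_inv_rev, mul_assoc]

theorem cj_one (H : Subgroup G) : cj 1 H = H := by
  ext x; simp [mem_cj]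

theorem cj_mono (g : G) {H K : Subgroup G} (h : H ≤ K) : cj g H ≤ cj g K := Subgroup.map_mono h

theorem card_cj (g : G) (H : Subgroup G) : Nat.card (cj g H) = Nat.card H :=
  Nat.card_congr (H.equivMapOfInjective _ (MulAut.conj g).injective).toEquiv.symm

/-- The elements moving `v` inside `Z`. -/
def Fixes (Z : Subgroup G) (v g : G) : Prop := ⁅g, v⁆ ∈ Z

/-- The hypotheses. -/
structure Config (p : ℕ) (V P A M T : Subgroup G) : Prop where
  vcomm : ∀ x ∈ V, ∀ y ∈ V, x * y = y * x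
  vexp : ∀ x ∈ V, x ^ p = 1
  norm : ∀ g ∈ P, ∀ x ∈ V, g * x * g⁻¹ ∈ V
  acomm : ∀ x ∈ A, ∀ y ∈ A, x * y = y * x
  aT : A ≤ T
  tM : T ≤ M
  mP : M ≤ P
  ne : ∃ x ∈ P, x ∉ M
  tp : IsPGroup p T
  sylow : ∀ Q : Subgroup G, Q ≤ M → IsPGroup p Q → ∃ m ∈ M, Q ≤ cj m T
  cop : ¬ p ∣ T.relIndex P
  meas : Nat.card V ≤ Nat.card A * Nat.card ↥(V ⊓ Subgroup.centralizer (A : Set G))
  strict : ∀ A₀ : Subgroup G, A₀ ≤ A → A₀ ≠ ⊥ → A₀ ≠ A →
    Nat.card A₀ * Nat.card ↥(V ⊓ Subgroup.centralizer (A₀ : Set G)) <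
      Nat.card A * Nat.card ↥(V ⊓ Subgroup.centralizer (A : Set G))
  gen : ∀ x ∈ P, x ∉ M → A ⊔ cj x A = P
  moved : ∃ u ∈ V, u ∈ Subgroup.centralizer (T : Set G) ∧ u ∉ Subgroup.centralizer (P : Set G)

namespace Config

variable {p : ℕ} {V P A M T : Subgroup G} (C : Config p V P A M T)

theorem mem_cent {H : Subgroup G} {x : G} :
    x ∈ Subgroup.centralizer (H : Set G) ↔ ∀ h ∈ H, h * x * h⁻¹ = x := by
  rw [Subgroup.mem_centralizer_iff]
  exact forall_congr' fun h => imp_congr_right fun _ => mul_inv_eq_iff_eq_mul.symm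

include C

theorem aP : A ≤ P := C.aT.trans (C.tM.trans C.mP)

theorem cjP {g : G} (hg : g ∈ P) {H : Subgroup G} (h : H ≤ P) : cj g H ≤ P := fun x hx => by
  have h1 := P.mul_mem (P.mul_mem hg (h (mem_cj.mp hx))) (P.inv_mem hg)
  simpa [mul_assoc] using h1

theorem comm_mem {g x : G} (hg : g ∈ P) (hx : x ∈ V) : ⁅g, x⁆ ∈ V :=
  V.mul_mem (C.norm g hg x hx) (V.inv_mem hx)

theorem norm_inv {g x : G} (hg : g ∈ P) (hx : x ∈ V) : g⁻¹ * x * g ∈ V := by
  have := C.norm g⁻¹ (P.inv_mem hg) x hx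
  rwa [inv_inv] at this

theorem comm_mul_right {g x y : G} (hg : g ∈ P) (hx : x ∈ V) (hy : y ∈ V) :
    ⁅g, x * y⁆ = ⁅g, x⁆ * ⁅g, y⁆ := by
  have h1 := C.vcomm _ (C.norm g hg y hy) _ (V.inv_mem hx)
  have h2 := C.vcomm _ (V.inv_mem hy) _ (V.inv_mem hx)
  calc ⁅g, x * y⁆ = (g * x * g⁻¹) * ((g * y * g⁻¹) * (y⁻¹ * x⁻¹)) := by
        simp only [commutatorElement_def]; group
    _ = (g * x * g⁻¹) * ((g * y * g⁻¹) * (x⁻¹ * y⁻¹)) := by rw [h2]
    _ = (g * x * g⁻¹) * ((x⁻¹ * (g * y * g⁻¹)) * y⁻¹) := by rw [← mul_assoc (g * y * g⁻¹), h1]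
    _ = _ := by simp only [commutatorElement_def]; group

theorem z_le {g x : G} (hg : g ∈ P) (hx : x ∈ V ⊓ Subgroup.centralizer (P : Set G)) :
    g * x * g⁻¹ = x := mem_cent.mp hx.2 g hg

theorem point_le {g : G} (hg : g ∈ P) :
    cj g (V ⊓ Subgroup.centralizer (A : Set G)) ≤ V := fun x hx => by
  have h := C.norm g hg _ (mem_cj.mp hx).1
  simpa [mul_assoc] using h

theorem z_le_point {g : G} (hg : g ∈ P) :
    V ⊓ Subgroup.centralizer (P : Set G) ≤ cj g (V ⊓ Subgroup.centralizer (A : Set G)) := by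
  intro x hx
  refine mem_cj.mpr ?_
  have h : g⁻¹ * x * g = x := by simpa using C.z_le (P.inv_mem hg) hx
  rw [h]
  exact ⟨hx.1, mem_cent.mpr fun a ha => C.z_le (C.aP ha) hx⟩

/-- An element of a point is centralised by the corresponding conjugate of `A`. -/
theorem point_fix {g v b : G} (hv : v ∈ cj g (V ⊓ Subgroup.centralizer (A : Set G)))
    (hb : b ∈ cj g A) : b * v * b⁻¹ = v := by
  have h := mem_cent.mp (mem_cj.mp hv).2 _ (mem_cj.mp hb)
  have h2 : g⁻¹ * (b * v * b⁻¹) * g = g⁻¹ * v * g :=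
    Eq.trans (by group) h
  exact mul_left_cancel (mul_right_cancel h2)

theorem inter {x v : G} (hx : x ∈ P) (hxM : x ∉ M)
    (hv : v ∈ V ⊓ Subgroup.centralizer (A : Set G))
    (hv' : v ∈ cj x (V ⊓ Subgroup.centralizer (A : Set G))) :
    v ∈ V ⊓ Subgroup.centralizer (P : Set G) := by
  refine ⟨hv.1, mem_cent.mpr ?_⟩
  have hle : A ⊔ cj x A ≤ Subgroup.centralizer {v} := sup_le
    (fun a ha => Subgroup.mem_centralizer_singleton_iff.mpr
      (mul_inv_eq_iff_eq_mul.mp (mem_cent.mp hv.2 a ha)))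
    (fun b hb => Subgroup.mem_centralizer_singleton_iff.mpr
      (mul_inv_eq_iff_eq_mul.mp (C.point_fix hv' hb)))
  intro h hh
  rw [← C.gen x hx hxM] at hh
  exact mul_inv_eq_iff_eq_mul.mpr (Subgroup.mem_centralizer_singleton_iff.mp (hle hh))

theorem inter' {g h v : G} (hg : g ∈ P) (hh : h ∈ P) (hgh : g⁻¹ * h ∉ M)
    (hv : v ∈ cj g (V ⊓ Subgroup.centralizer (A : Set G)))
    (hv' : v ∈ cj h (V ⊓ Subgroup.centralizer (A : Set G))) :
    v ∈ V ⊓ Subgroup.centralizer (P : Set G) := by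
  have h1 := C.inter (P.mul_mem (P.inv_mem hg) hh) hgh (mem_cj.mp hv) (by
    refine mem_cj.mpr ?_
    simpa [mul_assoc] using mem_cj.mp hv')
  have h2 := C.z_le hg h1
  have e : g * (g⁻¹ * v * g) * g⁻¹ = v := by group
  rw [e] at h2
  rw [h2]
  exact h1

/-- An element fixing a vector of a point modulo the fixed space is in the conjugate of `M`. -/
theorem fixes_mem {g v : G} (hg : g ∈ P) (hv : v ∈ V ⊓ Subgroup.centralizer (A : Set G))
    (hvZ : v ∉ V ⊓ Subgroup.centralizer (P : Set G))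
    (h : Fixes (V ⊓ Subgroup.centralizer (P : Set G)) v g) : g ∈ M := by
  by_contra hgM
  refine hvZ ?_
  have hz : ⁅g, v⁆ * v ∈ V ⊓ Subgroup.centralizer (P : Set G) := by
    refine C.inter hg hgM ?_ ?_
    · exact mul_mem ⟨h.1, mem_cent.mpr fun a ha => C.z_le (C.aP ha) h⟩ hv
    · rw [show ⁅g, v⁆ * v = g * v * g⁻¹ by simp only [commutatorElement_def]; group]
      exact conj_mem_cj g hv
  have h2 := Subgroup.mul_mem _ (Subgroup.inv_mem _ h) hz
  rwa [← mul_assoc, inv_mul_cancel, one_mul] at h2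

theorem fixes_conj {h g v : G} (hh : h ∈ P)
    (hf : Fixes (V ⊓ Subgroup.centralizer (P : Set G)) v g) :
    Fixes (V ⊓ Subgroup.centralizer (P : Set G)) (h⁻¹ * v * h) (h⁻¹ * g * h) := by
  have e : ⁅h⁻¹ * g * h, h⁻¹ * v * h⁆ = h⁻¹ * ⁅g, v⁆ * h := by
    simp only [commutatorElement_def]; group
  have h1 := C.z_le (P.inv_mem hh) hf
  rw [inv_inv] at h1
  show _ ∈ _
  rw [e, h1]
  exact hf

theorem fixes_one (v : G) : Fixes (V ⊓ Subgroup.centralizer (P : Set G)) v 1 := by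
  show ⁅(1 : G), v⁆ ∈ _
  rw [commutatorElement_one_left]
  exact Subgroup.one_mem _

theorem fixes_mul {g h v : G} (hg : g ∈ P)
    (h1 : Fixes (V ⊓ Subgroup.centralizer (P : Set G)) v g)
    (h2 : Fixes (V ⊓ Subgroup.centralizer (P : Set G)) v h) :
    Fixes (V ⊓ Subgroup.centralizer (P : Set G)) v (g * h) := by
  have e : ⁅g * h, v⁆ = g * ⁅h, v⁆ * g⁻¹ * ⁅g, v⁆ := by simp only [commutatorElement_def]; group
  show _ ∈ _
  rw [e, C.z_le hg h2]
  exact Subgroup.mul_mem _ h2 h1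

theorem fixes_inv {g v : G} (hg : g ∈ P)
    (h1 : Fixes (V ⊓ Subgroup.centralizer (P : Set G)) v g) :
    Fixes (V ⊓ Subgroup.centralizer (P : Set G)) v g⁻¹ := by
  have h3 := C.z_le (P.inv_mem hg) (Subgroup.inv_mem _ h1)
  have e : ⁅g⁻¹, v⁆ = g⁻¹ * ⁅g, v⁆⁻¹ * g⁻¹⁻¹ := by simp only [commutatorElement_def]; group
  show _ ∈ _
  rw [e, h3]
  exact Subgroup.inv_mem _ h1

/-- The stabiliser of a vector modulo the fixed space. -/
def stab (v : G) : Subgroup G where
  carrier := {g | g ∈ P ∧ Fixes (V ⊓ Subgroup.centralizer (P : Set G)) v g}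
  one_mem' := ⟨P.one_mem, C.fixes_one v⟩
  mul_mem' {a b} ha hb := ⟨P.mul_mem ha.1 hb.1, C.fixes_mul ha.1 ha.2 hb.2⟩
  inv_mem' {a} ha := ⟨P.inv_mem ha.1, C.fixes_inv ha.1 ha.2⟩

/-- A vector centralised by a Sylow subgroup is fixed by what fixes it modulo the fixed space. -/
theorem fixes_exact [Finite G] [Fact p.Prime] {h u g : G} (hh : h ∈ P) (hu : u ∈ V)
    (huT : ∀ t ∈ cj h T, t * u * t⁻¹ = u) (hg : g ∈ P)
    (hf : Fixes (V ⊓ Subgroup.centralizer (P : Set G)) u g) : g * u * g⁻¹ = u := by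
  classical
  obtain ⟨D, hD⟩ : ∃ D, D = C.stab u := ⟨_, rfl⟩
  let φ : D →* G :=
    { toFun := fun d => ⁅(d : G), u⁆
      map_one' := commutatorElement_one_left u
      map_mul' := fun a b => by
        have ha : (a : G) ∈ P ∧ _ := hD.le a.2
        have hb : (b : G) ∈ P ∧ _ := hD.le b.2
        have e : ⁅(a : G) * b, u⁆ = a * ⁅(b : G), u⁆ * (a : G)⁻¹ * ⁅(a : G), u⁆ := by
          simp only [commutatorElement_def]; group
        rw [Subgroup.coe_mul, e, C.z_le ha.1 hb.2]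
        exact C.vcomm _ hb.2.1 _ ha.2.1 }
  have hTD : cj h T ≤ D := fun t ht => hD ▸ ⟨C.cjP hh (C.tM.trans C.mP) ht, by
    show ⁅t, u⁆ ∈ _
    rw [commutatorElement_def, huT t ht, mul_inv_cancel]
    exact Subgroup.one_mem _⟩
  have hker : (cj h T).subgroupOf D ≤ φ.ker := fun d hd => by
    rw [MonoidHom.mem_ker]
    show ⁅(d : G), u⁆ = 1
    rw [commutatorElement_def, huT (d : G) hd, mul_inv_cancel]
  have hDP : D ≤ P := fun d hd => (hD.le hd).1
  have hrel : (cj h T).relIndex P = T.relIndex P := by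
    have e1 : cj h T ≤ P := C.cjP hh (C.tM.trans C.mP)
    have e2 : T ≤ P := C.tM.trans C.mP
    have h1 := Subgroup.relIndex_mul_relIndex ⊥ (cj h T) P bot_le e1
    have h2 := Subgroup.relIndex_mul_relIndex ⊥ T P bot_le e2
    rw [Subgroup.relIndex_bot_left, Subgroup.relIndex_bot_left] at h1 h2
    rw [card_cj, ← h2] at h1
    exact Nat.eq_of_mul_eq_mul_left Nat.card_pos h1
  have hdvd : Nat.card φ.range ∣ T.relIndex P := by
    rw [← Subgroup.index_ker, ← hrel]
    exact (Subgroup.index_dvd_of_le hker).trans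
      ⟨_, (Subgroup.relIndex_mul_relIndex _ _ _ hTD hDP).symm⟩
  have hp : IsPGroup p φ.range := fun y => by
    obtain ⟨_, d, rfl⟩ := y
    refine ⟨1, Subtype.ext ?_⟩
    rw [pow_one, Subgroup.coe_pow, Subgroup.coe_one]
    exact C.vexp _ (hD.le d.2).2.1
  have hr : φ.range = ⊥ := by
    obtain ⟨n, hn⟩ := IsPGroup.iff_card.mp hp
    cases n with
    | zero => rw [pow_zero] at hn; exact Subgroup.card_eq_one.mp hn
    | succ n => exact absurd ((hn ▸ dvd_pow_self p n.succ_ne_zero).trans hdvd) C.cop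
  have : φ ⟨g, hD ▸ ⟨hg, hf⟩⟩ ∈ φ.range := ⟨_, rfl⟩
  rw [hr, Subgroup.mem_bot] at this
  exact mul_inv_eq_one.mp this

/-- Every subgroup normalising a set in a nilpotent overgroup reaches its own fixed level. -/
theorem exists_level [Finite G] {H L R U : Subgroup G} (hH : IsPGroup p H) [Fact p.Prime]
    (hL : L ≤ H) (hR : R ≤ H) (hRL : ∀ r ∈ R, ∀ l ∈ L, r * l * r⁻¹ ∈ L) (hLU : ¬ L ≤ U) :
    ∃ l ∈ L, l ∉ U ∧ ∀ r ∈ R, ⁅r, l⁆ ∈ U ∧ ∀ s ∈ R, ⁅s, ⁅r, l⁆⁆ ∈ U := by
  classical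
  let Lv : ℕ → Subgroup G := fun n => Nat.rec L (fun _ K => ⁅R, K⁆) n
  have hsucc : ∀ n, Lv (n + 1) = ⁅R, Lv n⁆ := fun n => rfl
  have hmono : ∀ n, Lv (n + 1) ≤ Lv n := by
    intro n
    induction n with
    | zero =>
      refine Subgroup.commutator_le.mpr fun r hr l hl => ?_
      exact L.mul_mem (hRL r hr l hl) (L.inv_mem hl)
    | succ n ih => exact Subgroup.commutator_mono le_rfl ih
  have : Group.IsNilpotent H := hH.isNilpotent
  obtain ⟨k, hk⟩ := Subgroup.nilpotent_iff_lowerCentralSeries.mp this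
  have hlow : ∀ n, Lv n ≤ (Subgroup.lowerCentralSeries (⊤ : Subgroup H) n).map H.subtype := by
    intro n
    induction n with
    | zero =>
      intro l hl
      exact ⟨⟨l, hL hl⟩, Subgroup.mem_top _, rfl⟩
    | succ n ih =>
      rw [Subgroup.lowerCentralSeries_succ, Subgroup.map_commutator, Subgroup.commutator_comm, hsucc]
      exact Subgroup.commutator_mono (fun r hr => ⟨⟨r, hR hr⟩, Subgroup.mem_top _, rfl⟩) ih
  have hbot : Lv k ≤ U := fun x hx => by
    have := hlow k hx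
    rw [hk, Subgroup.map_bot, Subgroup.mem_bot] at this
    rw [this]
    exact U.one_mem
  obtain ⟨n, hn, hn'⟩ : ∃ n, ¬ Lv n ≤ U ∧ Lv (n + 1) ≤ U := by
    by_contra! hc
    exact (Nat.rec hLU (fun n ih => hc n ih) k : ¬ Lv k ≤ U) hbot
  obtain ⟨l, hl, hlU⟩ := SetLike.not_le_iff_exists.mp hn
  have hle : Lv n ≤ L := by
    clear hn hn' hl
    induction n with
    | zero => exact le_rfl
    | succ n ih => exact (hmono n).trans ih
  refine ⟨l, hle hl, hlU, fun r hr => ?_⟩
  have h1 : ⁅r, l⁆ ∈ Lv (n + 1) := Subgroup.commutator_mem_commutator hr hl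
  exact ⟨hn' h1, fun s hs => hn' (hmono (n + 1) (Subgroup.commutator_mem_commutator hs h1))⟩

theorem sup_vgroup [Fact p.Prime] {R : Subgroup G} (hR : IsPGroup p R) (hRP : R ≤ P) :
    IsPGroup p ↥(R ⊔ V) := by
  refine hR.to_sup_of_normal_right' (fun x => ⟨1, Subtype.ext ?_⟩) fun r hr => ?_
  · rw [pow_one, Subgroup.coe_pow, Subgroup.coe_one]
    exact C.vexp _ x.2
  · refine Subgroup.mem_normalizer_iff.mpr fun x => ⟨fun hx => C.norm r (hRP hr) x hx, fun hx => ?_⟩
    have := C.norm_inv (hRP hr) hx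
    simpa [mul_assoc] using this

variable [Finite G] [Fact p.Prime]

/-- The action on `V` seen additively. -/
theorem quadratic : ∀ a ∈ A, ∀ v ∈ V, ⁅a, v⁆ ∈ V ⊓ Subgroup.centralizer (A : Set G) := by
  classical
  letI : CommGroup V :=
    { (inferInstance : Group V) with mul_comm := fun x y => Subtype.ext (C.vcomm _ x.2 _ y.2) }
  let T' : A →* AddMonoid.End (Additive V) :=
    { toFun := fun a =>
        ({ toFun := fun v => Additive.ofMul ⟨(a : G) * (v.toMul : G) * (a : G)⁻¹,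
            C.norm a (C.aP a.2) _ v.toMul.2⟩
           map_zero' := congrArg Additive.ofMul (Subtype.ext (by simp))
           map_add' := fun x y => congrArg Additive.ofMul (Subtype.ext (by simp [mul_assoc])) } :
          Additive V →+ Additive V)
      map_one' := AddMonoidHom.ext fun v => Additive.toMul.injective (Subtype.ext (by
        show (1 : G) * (v.toMul : G) * (1 : G)⁻¹ = (v.toMul : G)
        simp))
      map_mul' := fun a b => AddMonoidHom.ext fun v => Additive.toMul.injective (Subtype.ext (by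
        show (a : G) * b * (v.toMul : G) * ((a : G) * b)⁻¹ =
          (a : G) * ((b : G) * (v.toMul : G) * (b : G)⁻¹) * (a : G)⁻¹
        group)) }
  have hT : ∀ (a : A) (v : Additive V),
      ((T' a v).toMul : G) = (a : G) * (v.toMul : G) * (a : G)⁻¹ := fun _ _ => rfl
  have hfix : ∀ B : Subgroup A, Nat.card (Transfer.Timmesfeld.fix T' B) =
      Nat.card ↥(V ⊓ Subgroup.centralizer (B.map A.subtype : Set G)) := by
    intro B
    refine Nat.card_eq_of_bijective (fun w => ⟨((w : Additive V).toMul : G), (w : Additive V).toMul.2,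
      mem_cent.mpr fun b hb => ?_⟩) ⟨fun x y h => ?_, fun x => ?_⟩
    · obtain ⟨b', hb', rfl⟩ := hb
      exact congrArg (fun z : Additive V => (z.toMul : G)) (w.2 b' hb')
    · have h' := congrArg (fun z : ↥(V ⊓ Subgroup.centralizer (B.map A.subtype : Set G)) => (z : G)) h
      exact Subtype.ext (Additive.toMul.injective (Subtype.ext h'))
    · exact ⟨⟨Additive.ofMul ⟨x, x.2.1⟩, fun b hb => Additive.toMul.injective (Subtype.ext
        (mem_cent.mp x.2.2 _ ⟨b, hb, rfl⟩))⟩, rfl⟩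
  have hmeas : ∀ B : Subgroup A, Transfer.Timmesfeld.meas T' B = Nat.card (B.map A.subtype) *
      Nat.card ↥(V ⊓ Subgroup.centralizer (B.map A.subtype : Set G)) := fun B => by
    rw [Transfer.Timmesfeld.meas, hfix, Subgroup.card_map_of_injective A.subtype_injective]
  have htop : (⊤ : Subgroup A).map A.subtype = A := by
    rw [← MonoidHom.range_eq_map, A.range_subtype]
  have hmax : ∀ B : Subgroup A, Transfer.Timmesfeld.meas T' B ≤ Transfer.Timmesfeld.meas T' ⊤ := by
    intro B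
    rw [hmeas, hmeas, htop]
    by_cases h0 : B.map A.subtype = ⊥
    · rw [h0, Subgroup.card_bot, one_mul]
      exact (Subgroup.card_le_of_le inf_le_left).trans C.meas
    by_cases h1 : B.map A.subtype = A
    · rw [h1]
    exact (C.strict _ (Subgroup.map_subtype_le B) h0 h1).le
  haveI : Fintype (Additive V) := Fintype.ofFinite _
  have hcomm : ∀ a b : A, ∀ w, T' a (T' b w) = T' b (T' a w) := fun a b w => by
    show (T' a * T' b) w = (T' b * T' a) w
    rw [← map_mul, ← map_mul, show a * b = b * a from Subtype.ext (C.acomm _ a.2 _ b.2)]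
  obtain ⟨hm, hfx⟩ := Transfer.Timmesfeld.replacement T' hcomm hmax (Finset.univ : Finset (Additive V))
  obtain ⟨B₀, hB₀⟩ : ∃ B₀, B₀ = Transfer.Timmesfeld.stab T'
      (Transfer.Timmesfeld.comm T' ((Finset.univ : Finset (Additive V)) : Set (Additive V))) := ⟨_, rfl⟩
  rw [← hB₀] at hm hfx
  have hquad : B₀ = ⊤ → ∀ a ∈ A, ∀ v ∈ V, ⁅a, v⁆ ∈ V ⊓ Subgroup.centralizer (A : Set G) := by
    intro e a ha v hv
    refine ⟨C.comm_mem (C.aP ha) hv, mem_cent.mpr fun b hb => ?_⟩
    have hmem : (⟨b, hb⟩ : A) ∈ B₀ := e ▸ Subgroup.mem_top _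
    rw [hB₀] at hmem
    have h1 := hmem (Additive.ofMul ⟨v, hv⟩ - T' ⟨a, ha⟩ (Additive.ofMul ⟨v, hv⟩))
      (AddSubgroup.subset_closure ⟨_, Finset.mem_coe.mpr (Finset.mem_univ _), _, rfl⟩)
    have h2 : b * (v / (a * v * a⁻¹)) * b⁻¹ = v / (a * v * a⁻¹) := by
      have := congrArg (fun z : Additive V => (z.toMul : G)) h1
      simpa [div_eq_mul_inv, toMul_sub, hT, mul_assoc] using this
    rw [show ⁅a, v⁆ = (v / (a * v * a⁻¹))⁻¹ by
      simp only [commutatorElement_def, div_eq_mul_inv]; group]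
    calc b * (v / (a * v * a⁻¹))⁻¹ * b⁻¹ = (b * (v / (a * v * a⁻¹)) * b⁻¹)⁻¹ := by group
      _ = _ := by rw [h2]
  by_cases h1 : B₀ = ⊤
  · exact hquad h1
  by_cases h0 : B₀ = ⊥
  swap
  · exfalso
    rw [hmeas, hmeas, htop] at hm
    refine lt_irrefl _ (hm ▸ C.strict _ (Subgroup.map_subtype_le B₀) (fun e => h0 ?_) fun e => h1 ?_)
    · exact (Subgroup.map_eq_bot_iff_of_injective _ A.subtype_injective).mp e
    · exact Subgroup.map_injective A.subtype_injective (e.trans htop.symm)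
  -- the whole of `V` cannot be the sum of the commutators and the fixed vectors
  exfalso
  obtain ⟨W, hW⟩ : ∃ W, W = V ⊓ Subgroup.centralizer (A : Set G) := ⟨_, rfl⟩
  have hspan : V ≤ ⁅A, V⁆ ⊔ W := by
    intro v hv
    have hall : Additive.ofMul (⟨v, hv⟩ : V) ∈ Transfer.Timmesfeld.fix T' B₀ := by
      rw [h0]
      intro b hb
      rw [Subgroup.mem_bot.mp hb, map_one]; rfl
    rw [hfx] at hall
    obtain ⟨c, hc, f, hf, hcf⟩ := AddSubgroup.mem_sup.mp hall
    have hcv : (c.toMul : G) ∈ ⁅A, V⁆ := by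
      clear hcf
      refine AddSubgroup.closure_induction (p := fun z _ => ((Additive.toMul z : V) : G) ∈ ⁅A, V⁆)
        ?_ ?_ ?_ ?_ hc
      · rintro _ ⟨u, -, a, rfl⟩
        have h := Subgroup.inv_mem _ (Subgroup.commutator_mem_commutator a.2 u.toMul.2)
        rw [commutatorElement_inv, commutatorElement_def] at h
        show ((u - T' a u).toMul : G) ∈ _
        rw [toMul_sub, div_eq_mul_inv]
        simpa [hT, mul_assoc] using h
      · exact Subgroup.one_mem _
      · intro x y _ _ hx hy; exact Subgroup.mul_mem _ hx hy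
      · intro x _ hx; exact Subgroup.inv_mem _ hx
    have hfW : (f.toMul : G) ∈ W := by
      rw [hW]
      refine ⟨f.toMul.2, mem_cent.mpr fun a ha => ?_⟩
      exact congrArg (fun z : Additive V => (z.toMul : G)) (hf ⟨a, ha⟩ trivial)
    have e : v = (c.toMul : G) * (f.toMul : G) :=
      (congrArg (fun z : Additive V => (z.toMul : G)) hcf).symm
    rw [e]
    exact Subgroup.mul_mem_sup hcv hfW
  have hVW : ¬ V ≤ W := fun hle => h1 (by
    rw [hB₀]
    refine eq_top_iff.mpr fun b _ w _ => Additive.toMul.injective (Subtype.ext ?_)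
    rw [hT]
    exact mem_cent.mp (hW.le (hle w.toMul.2)).2 b b.2)
  have hAV : ∀ a ∈ A, ∀ v ∈ V, a * v * a⁻¹ ∈ V := fun a ha => C.norm a (C.aP ha)
  have hle1 : ⁅A, V⁆ ≤ V := Subgroup.commutator_le.mpr fun a ha v hv => C.comm_mem (C.aP ha) hv
  have hstep : ⁅A, V⁆ ≤ ⁅A, ⁅A, V⁆⁆ := by
    refine Subgroup.commutator_le.mpr fun a ha v hv => ?_
    obtain ⟨c, hc, w, hw, rfl⟩ : ∃ c ∈ ⁅A, V⁆, ∃ w ∈ W, c * w = v := by
      have := hspan hv
      rw [← SetLike.mem_coe, Subgroup.coe_mul_of_left_le_normalizer_right _ _ ?_] at this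
      · exact Set.mem_mul.mp this
      · intro x hx
        refine Subgroup.mem_normalizer_iff.mpr fun y => ?_
        constructor
        · intro hy
          rw [C.vcomm x (hle1 hx) y (hW.le hy).1, mul_inv_cancel_right]; exact hy
        · intro hy
          have hyV : y ∈ V := by
            have := V.mul_mem (V.mul_mem (V.inv_mem (hle1 hx)) (hW.le hy).1) (hle1 hx)
            simpa [mul_assoc] using this
          rwa [C.vcomm x (hle1 hx) y hyV, mul_inv_cancel_right] at hy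
    have hw' : ⁅a, w⁆ = 1 := by
      rw [commutatorElement_def, mem_cent.mp (hW.le hw).2 a ha, mul_inv_cancel]
    rw [C.comm_mul_right (C.aP ha) (hle1 hc) (hW.le hw).1, hw', mul_one]
    exact Subgroup.commutator_mem_commutator ha hc
  have hH := C.sup_vgroup (C.tp.to_le C.aT) C.aP
  have hbot : ⁅A, V⁆ = ⊥ := by
    have : Group.IsNilpotent ↥(A ⊔ V) := hH.isNilpotent
    obtain ⟨k, hk⟩ := Subgroup.nilpotent_iff_lowerCentralSeries.mp this
    have hlow : ∀ n, ⁅A, V⁆ ≤
        (Subgroup.lowerCentralSeries (⊤ : Subgroup ↥(A ⊔ V)) n).map (A ⊔ V).subtype := by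
      intro n
      induction n with
      | zero => exact fun x hx => ⟨⟨x, le_sup_right (a := A) (hle1 hx)⟩, Subgroup.mem_top _, rfl⟩
      | succ n ih =>
        rw [Subgroup.lowerCentralSeries_succ, Subgroup.map_commutator]
        refine hstep.trans ((Subgroup.commutator_mono ?_ ih).trans (Subgroup.commutator_comm _ _).le)
        exact fun r hr => ⟨⟨r, le_sup_left (b := V) hr⟩, Subgroup.mem_top _, rfl⟩
    refine eq_bot_iff.mpr fun x hx => ?_
    have := hlow k hx
    rwa [hk, Subgroup.map_bot] at this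
  refine hVW (hspan.trans ?_)
  rw [hbot, bot_sup_eq]

end Config

end Cfsg.Agent.Grp.OffenderSL2
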